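import Cfsg.Agent.OneClassInvolutions.Anisotropic
import Cfsg.Agent.Transfer.Critical
import Cfsg.Agent.Coprime.ActionHom
import Cfsg.Agent.Solvable.Hall
import Cfsg.Agent.Solvable.Fitting
import Cfsg.Agent.Solvable.Frattini
import Cfsg.Agent.PLocal.PSolvable
import Cfsg.Agent.Zsigmondy.Basic
import Cfsg.Agent.PLength.Basic

/-!
# Solvable groups with one class of involutions: the two-length

If `G` is solvable with `O(G) = 1`, has at least two involutions and all of them are conjugate,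
then `O₂(G)` is a Sylow `2`-subgroup.
-/

set_option autoImplicit false
set_option linter.style.haveILetI false

namespace CfsgLib.OneClassInvolutions

open Cfsg Subgroup
open scoped commutatorElement

section Tools

variable {G : Type*} [Group G]

theorem iterate_step {k x c : G} (h : k * x * k⁻¹ = x * c) (hc : k * c = c * k) (i : ℕ) :
    k ^ i * x * (k ^ i)⁻¹ = x * c ^ i := by
  induction i with
  | zero => simp
  | succ i ih =>
    have hck : k * c ^ i * k⁻¹ = c ^ i := by
      rw [(Commute.pow_right hc i).eq, mul_inv_cancel_right]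
    rw [pow_succ' k, show k * k ^ i * x * (k * k ^ i)⁻¹ = k * (k ^ i * x * (k ^ i)⁻¹) * k⁻¹ by group,
      ih, ← conj_mul, h, hck, mul_assoc, pow_succ' c]

/-- An element of odd order moving `x` by a fixed `2`-element centralizes `x`. -/
theorem fix_of_step {k x c : G} {m j : ℕ} (hm : Odd m) (hk : k ^ m = 1)
    (h : k * x * k⁻¹ = x * c) (hc : k * c = c * k) (hc2 : c ^ (2 ^ j) = 1) : c = 1 := by
  have h1 := iterate_step h hc m
  rw [hk, one_mul, inv_one, mul_one] at h1
  have hcm : c ^ m = 1 := left_eq_mul.1 h1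
  have hcop : m.Coprime (2 ^ j) := Nat.Coprime.pow_right _ (Nat.coprime_two_right.2 hm)
  have := pow_gcd_eq_one.2 ⟨hcm, hc2⟩
  rwa [hcop.gcd_eq_one, pow_one] at this

end Tools

section System

variable {G : Type*} [Group G] [Finite G]

/-- The bound for dihedral actions on `X / V`, stated inside `G`. -/
theorem card_bound {V X : Subgroup G} [X.Normal] (hV : ∀ v, v ∈ V ↔ v ^ 2 = 1) (hVX : V ≤ X)
    (hVc : ∀ v ∈ V, ∀ x ∈ X, v * x = x * v) (hsq : ∀ x ∈ X, x * x ∈ V)
    (hd : ∀ x ∈ X, ∀ y ∈ X, (x * y)⁻¹ * (y * x) ∈ V)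
    {r : ℕ} (hr : r.Prime) (hr2 : r ≠ 2) {P : Subgroup G}
    (hPV : P ≤ centralizer (V : Set G)) (hP : IsPGroup r P)
    (hfaith : ∀ p ∈ P, (∀ x ∈ X, x⁻¹ * (p * x * p⁻¹) ∈ V) → p = 1)
    {ι : Type*} [Fintype ι] (k : ι → G) (g : ι → ι → G)
    (hgV : ∀ i j, g i j ∈ centralizer (V : Set G))
    (hk : ∀ i, k i ∈ P) (hk1 : ∀ i, k i ≠ 1) (hkr : ∀ i, k i ^ r = 1)
    (hinv : ∀ i j, i ≠ j → g i j * k i * (g i j)⁻¹ = (k i)⁻¹)
    (hfix : ∀ i j, i ≠ j → g i j * k j * (g i j)⁻¹ = k j) :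
    2 ^ Fintype.card ι ≤ Nat.card V := by
  classical
  set Γ := centralizer (V : Set G) with hΓ
  haveI hVn : (V.subgroupOf X).Normal := ⟨fun v hv x => by
    rw [mem_subgroupOf] at hv ⊢
    rwa [Subgroup.coe_mul, Subgroup.coe_mul, Subgroup.coe_inv, ← hVc _ hv _ x.2,
      mul_inv_cancel_right]⟩
  letI : CommGroup V :=
    { (inferInstance : Group V) with mul_comm := fun a b => Subtype.ext (hVc _ a.2 _ (hVX b.2)) }
  letI : CommGroup (↥X ⧸ V.subgroupOf X) :=
    { (inferInstance : Group (↥X ⧸ V.subgroupOf X)) with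
      mul_comm := fun a b => by
        induction a using QuotientGroup.induction_on with | _ a => ?_
        induction b using QuotientGroup.induction_on with | _ b => ?_
        rw [← QuotientGroup.mk_mul, ← QuotientGroup.mk_mul, QuotientGroup.eq, mem_subgroupOf]
        simpa using hd _ a.2 _ b.2 }
  have hwd : ∀ x y : ↥X, (QuotientGroup.leftRel (V.subgroupOf X)).r x y →
      (⟨(x : G) * x, hsq _ x.2⟩ : V) = ⟨(y : G) * y, hsq _ y.2⟩ := by
    intro x y hxy
    rw [QuotientGroup.leftRel_apply, mem_subgroupOf, Subgroup.coe_mul, Subgroup.coe_inv] at hxy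
    refine Subtype.ext (?_ : (x : G) * x = y * y)
    set v := (x : G)⁻¹ * y with hv
    have hy : (y : G) = x * v := by rw [hv, mul_inv_cancel_left]
    have hv2 : v * v = 1 := by rw [← pow_two, ← hV]; exact hxy
    have hc : v * x = x * v := hVc v hxy x x.2
    calc (x : G) * x = x * (x * (v * v)) := by rw [hv2, mul_one]
      _ = x * ((v * x) * v) := by rw [hc]; group
      _ = y * y := by rw [hy]; group
  let Q : ↥X ⧸ V.subgroupOf X → V := fun w =>
    Quotient.liftOn' w (fun x => (⟨(x : G) * x, hsq _ x.2⟩ : V)) hwd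
  have hQmk : ∀ x : ↥X, (Q (x : ↥X ⧸ V.subgroupOf X) : G) = (x : G) * x := fun x => rfl
  -- the commutator
  have hpolar : ∀ x ∈ X, ∀ y ∈ X,
      (x * y) * (x * y) * (x * x) * (y * y) = (x * y)⁻¹ * (y * x) := by
    intro x hx y hy
    set d := (x * y)⁻¹ * (y * x) with hd'
    have hdV := hd x hx y hy
    have hyx : y * x = x * y * d := by rw [hd', mul_inv_cancel_left]
    have hdy : d * y = y * d := hVc d hdV y hy
    have hdx : d * (x * x) = (x * x) * d := hVc d hdV _ (mul_mem hx hx)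
    have hx4 : (x * x) * (x * x) = 1 := by
      rw [← pow_two, ← hV]; exact hsq x hx
    have hy4 : (y * y) * (y * y) = 1 := by
      rw [← pow_two, ← hV]; exact hsq y hy
    have hxy : (x * x) * (y * y) = (y * y) * (x * x) := hVc _ (hsq x hx) _ (mul_mem hy hy)
    calc (x * y) * (x * y) * (x * x) * (y * y) = x * (y * x) * y * (x * x) * (y * y) := by group
      _ = x * (x * y * d) * y * (x * x) * (y * y) := by rw [hyx]
      _ = x * x * y * (d * y) * (x * x) * (y * y) := by group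
      _ = x * x * y * (y * d) * (x * x) * (y * y) := by rw [hdy]
      _ = x * x * (y * y) * (d * (x * x)) * (y * y) := by group
      _ = x * x * (y * y) * ((x * x) * d) * (y * y) := by rw [hdx]
      _ = x * x * ((y * y) * (x * x)) * (d * (y * y)) := by group
      _ = x * x * ((x * x) * (y * y)) * ((y * y) * d) := by
        rw [hxy, hVc d hdV _ (mul_mem hy hy)]
      _ = ((x * x) * (x * x)) * ((y * y) * (y * y)) * d := by group
      _ = d := by rw [hx4, hy4, one_mul, one_mul]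
  have hbil : ∀ a ∈ X, ∀ b ∈ X, ∀ c ∈ X, ((a * b) * c)⁻¹ * (c * (a * b)) =
      ((a * c)⁻¹ * (c * a)) * ((b * c)⁻¹ * (c * b)) := by
    intro a ha b hb c hc
    set d := (a * c)⁻¹ * (c * a) with hd'
    set e := (b * c)⁻¹ * (c * b) with he
    have hca : c * a = a * c * d := by rw [hd', mul_inv_cancel_left]
    have hcb : c * b = b * c * e := by rw [he, mul_inv_cancel_left]
    have hdb : d * b = b * d := hVc d (hd a ha c hc) b hb
    have hde : d * e = e * d := hVc d (hd a ha c hc) e (hVX (hd b hb c hc))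
    rw [inv_mul_eq_iff_eq_mul, ← mul_assoc c, hca, hde]
    calc a * c * d * b = a * c * (d * b) := by group
      _ = a * (c * b) * d := by rw [hdb]; group
      _ = a * b * c * (e * d) := by rw [hcb]; group
  have hmem : ∀ γ : ↥Γ, (V.subgroupOf X).map
      (MulAut.conjNormal (H := X) (γ : G)).toMonoidHom = V.subgroupOf X := by
    intro γ
    have key : ∀ v : ↥X, (v : G) ∈ V → MulAut.conjNormal (γ : G) v = v := by
      intro v hv
      apply Subtype.ext
      rw [MulAut.conjNormal_apply]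
      exact mul_inv_eq_iff_eq_mul.2 (γ.2 _ hv).symm
    ext v
    constructor
    · rintro ⟨u, hu, rfl⟩
      show MulAut.conjNormal (γ : G) u ∈ _
      rw [key u hu]
      exact hu
    · exact fun hv => ⟨v, hv, key v hv⟩
  let ρ : ↥Γ →* MulAut (↥X ⧸ V.subgroupOf X) :=
    { toFun := fun γ => QuotientGroup.congr _ _ (MulAut.conjNormal (γ : G)) (hmem γ)
      map_one' := by
        apply MulEquiv.ext
        intro w
        induction w using QuotientGroup.induction_on with | _ w => ?_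
        simp
      map_mul' := fun γ δ => by
        apply MulEquiv.ext
        intro w
        induction w using QuotientGroup.induction_on with | _ w => ?_
        simp
        rfl }
  have hρmk : ∀ (γ : ↥Γ) (x : ↥X), ρ γ (x : ↥X ⧸ V.subgroupOf X) =
      ((MulAut.conjNormal (γ : G) x : ↥X) : ↥X ⧸ V.subgroupOf X) := fun γ x => rfl
  let S : AnisotropicSystem (↥X ⧸ V.subgroupOf X) V ↥Γ :=
    { ρ := ρ
      Q := Q
      sq_W := fun w => by
        induction w using QuotientGroup.induction_on with | _ w => ?_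
        rw [← QuotientGroup.mk_mul, QuotientGroup.eq_one_iff]
        exact hsq _ w.2
      sq_V := fun v => Subtype.ext (by rw [Subgroup.coe_mul, ← pow_two]; exact (hV _).1 v.2)
      aniso := fun w hw => by
        induction w using QuotientGroup.induction_on with | _ w => ?_
        rw [QuotientGroup.eq_one_iff, mem_subgroupOf, hV, pow_two]
        exact (hQmk w).symm.trans (congrArg Subtype.val hw)
      bilin := fun a b c => by
        induction a using QuotientGroup.induction_on with | _ a => ?_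
        induction b using QuotientGroup.induction_on with | _ b => ?_
        induction c using QuotientGroup.induction_on with | _ c => ?_
        apply Subtype.ext
        simp only [← QuotientGroup.mk_mul, Subgroup.coe_mul, hQmk]
        rw [hpolar _ (mul_mem a.2 b.2) _ c.2, hpolar _ a.2 _ c.2, hpolar _ b.2 _ c.2]
        exact hbil _ a.2 _ b.2 _ c.2
      invariant := fun γ w => by
        induction w using QuotientGroup.induction_on with | _ w => ?_
        apply Subtype.ext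
        rw [hρmk, hQmk, hQmk, MulAut.conjNormal_apply, conj_mul]
        exact mul_inv_eq_iff_eq_mul.2 (γ.2 _ (hsq _ w.2)).symm }
  have hfaith' : ∀ p ∈ P.subgroupOf Γ, (∀ w, S.ρ p w = w) → p = 1 := by
    intro p hp h
    refine Subtype.ext (hfaith _ hp fun x hx => ?_)
    have h1 := (h ((⟨x, hx⟩ : ↥X) : ↥X ⧸ V.subgroupOf X)).symm
    rw [show S.ρ = ρ from rfl, hρmk, QuotientGroup.eq, mem_subgroupOf, Subgroup.coe_mul,
      Subgroup.coe_inv, MulAut.conjNormal_apply] at h1
    exact h1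
  refine S.two_pow_card_le hr hr2 (P := P.subgroupOf Γ)
    (hP.of_equiv (subgroupOfEquivOfLe hPV).symm) hfaith'
    (fun i => ⟨k i, hPV (hk i)⟩) (fun i j => ⟨g i j, hgV i j⟩) (fun i => hk i)
    (fun i h => hk1 i (congrArg Subtype.val h)) (fun i => Subtype.ext (by simp [hkr i]))
    (fun i j h => Subtype.ext (by simpa using hinv i j h))
    (fun i j h => Subtype.ext (by simpa using hfix i j h))

end System

section Eigen

variable {G : Type*} [Group G] [Finite G]

/-- If `E` acts on the odd `r`-group `P` through an elementary abelian `2`-group and `g ∈ E`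
does not centralize `P`, some element of order `r` is inverted by `g` and is fixed or inverted
by every element of `E`. -/
theorem exists_eigen {r : ℕ} (hr : r.Prime) (hr2 : r ≠ 2) {P E : Subgroup G} (hP : IsPGroup r P)
    (hE : IsPGroup 2 E) (hEP : ∀ h ∈ E, ∀ y ∈ P, h * y * h⁻¹ ∈ P)
    (hsq : ∀ h ∈ E, ∀ y ∈ P, h * (h * y * h⁻¹) * h⁻¹ = y)
    (hab : ∀ h ∈ E, ∀ h' ∈ E, ∀ y ∈ P, h * (h' * y * h'⁻¹) * h⁻¹ = h' * (h * y * h⁻¹) * h'⁻¹)
    {g : G} (hg : g ∈ E) (hgP : ∃ y ∈ P, g * y * g⁻¹ ≠ y) :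
    ∃ k ∈ P, k ≠ 1 ∧ k ^ r = 1 ∧ g * k * g⁻¹ = k⁻¹ ∧
      ∀ h ∈ E, h * k * h⁻¹ = k ∨ h * k * h⁻¹ = k⁻¹ := by
  haveI : Fact r.Prime := ⟨hr⟩
  obtain ⟨Y, ⟨hYP, hYE, y0, hy0, hy0g⟩, hYmin⟩ := Set.Finite.exists_minimal
    (s := {Y : Subgroup G | Y ≤ P ∧ (∀ h ∈ E, ∀ y ∈ Y, h * y * h⁻¹ ∈ Y) ∧
      ∃ y ∈ Y, g * y * g⁻¹ ≠ y})
    (Set.toFinite _) ⟨P, le_rfl, hEP, hgP⟩
  have hproper : ∀ Z : Subgroup G, Z ≤ Y → (∀ h ∈ E, ∀ y ∈ Z, h * y * h⁻¹ ∈ Z) →
      ¬ Y ≤ Z → ∀ y ∈ Z, g * y * g⁻¹ = y := by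
    intro Z hZY hZE hZne y hy
    by_contra h
    exact hZne (hYmin ⟨hZY.trans hYP, hZE, y, hy, h⟩ hZY)
  have hYr : IsPGroup r Y := hP.to_le hYP
  -- `N = C_Y(g)`
  set N := Y ⊓ centralizer ({g} : Set G) with hN
  have hmemN : ∀ y, y ∈ N ↔ y ∈ Y ∧ g * y * g⁻¹ = y := by
    intro y
    rw [hN, mem_inf, mem_centralizer_singleton_iff, mul_inv_eq_iff_eq_mul]
    exact and_congr_right fun _ => eq_comm
  have hNE : ∀ h ∈ E, ∀ y ∈ N, h * y * h⁻¹ ∈ N := by
    intro h hh y hy
    rw [hmemN] at hy ⊢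
    exact ⟨hYE h hh y hy.1, by rw [hab g hg h hh y (hYP hy.1), hy.2]⟩
  have hcomm : ∀ a ∈ Y, ∀ b ∈ Y, a * b * a⁻¹ * b⁻¹ ∈ N := by
    intro a ha b hb
    have hZE : ∀ h ∈ E, ∀ y ∈ ⁅Y, Y⁆, h * y * h⁻¹ ∈ ⁅Y, Y⁆ := by
      intro h hh y hy
      have hle : (⁅Y, Y⁆).map (MulAut.conj h).toMonoidHom ≤ ⁅Y, Y⁆ := by
        rw [map_commutator]
        refine commutator_mono ?_ ?_ <;>
          exact map_le_iff_le_comap.2 fun x hx => hYE h hh x hx
      exact hle ⟨y, hy, rfl⟩
    have hne : ¬ Y ≤ ⁅Y, Y⁆ := by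
      intro hle
      haveI : Nontrivial Y := by
        rw [nontrivial_iff_ne_bot]
        rintro rfl
        rw [mem_bot] at hy0
        exact hy0g (by rw [hy0]; simp)
      haveI := hYr.isNilpotent
      haveI : Group.IsSolvable Y := inferInstance
      refine (Group.IsSolvable.commutator_lt_top_of_nontrivial (G := Y)).ne (top_le_iff.1 ?_)
      intro x _
      have hx := hle x.2
      have hmap : (commutator Y).map Y.subtype = ⁅Y, Y⁆ := by
        rw [_root_.commutator_def, map_commutator, ← MonoidHom.range_eq_map, range_subtype]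
      rw [← hmap] at hx
      obtain ⟨z, hz, hzx⟩ := hx
      rwa [Subtype.ext hzx] at hz
    have hmem := commutator_mem_commutator ha hb
    rw [hmemN]
    exact ⟨commutator_le_self Y hmem, hproper _ (commutator_le_self Y) hZE hne _ hmem⟩
  have hNnorm : ∀ a ∈ Y, ∀ n ∈ N, a * n * a⁻¹ ∈ N := by
    intro a ha n hn
    have h1 := mul_mem (hcomm a ha n ((hmemN n).1 hn).1) hn
    rwa [inv_mul_cancel_right] at h1
  -- cosets of `N` fixed by an element centralizing only `N` are trivial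
  have hcos : ∀ h ∈ E, (∀ y ∈ Y, h * y * h⁻¹ = y → y ∈ N) →
      ∀ z ∈ Y, z⁻¹ * (h * z * h⁻¹) ∈ N → z ∈ N := by
    intro h hh hfix z hz hzh
    have hnorm : zpowers h ≤ normalizer (N : Set G) := by
      rw [zpowers_le]
      refine mem_normalizer_iff.2 fun y => ⟨fun hy => hNE h hh y hy, fun hy => ?_⟩
      have := hNE h⁻¹ (inv_mem hh) _ hy
      simpa [mul_assoc] using this
    obtain ⟨a, ha⟩ := hE ⟨h, hh⟩
    have ha' : h ^ 2 ^ a = 1 := by simpa [Subtype.ext_iff] using ha
    obtain ⟨j, -, hj⟩ := (Nat.dvd_prime_pow Nat.prime_two).1 (orderOf_dvd_of_pow_eq_one ha')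
    obtain ⟨b, hb⟩ := IsPGroup.iff_card.1 (hP.to_le (inf_le_left.trans hYP : N ≤ P))
    have hcop : (Nat.card (zpowers h)).Coprime (Nat.card N) := by
      rw [Nat.card_zpowers, hj, hb]
      exact Nat.Coprime.pow _ _ ((Nat.coprime_primes Nat.prime_two hr).2 hr2.symm)
    haveI : Group.IsSolvable (zpowers h) := inferInstance
    obtain ⟨c, hcC, hcN⟩ := CfsgLib.Coprime.exists_fixed_mem_coset hnorm hcop
      (Or.inl inferInstance) (k := z) (by
        intro x hx
        rw [← mem_powers_iff_mem_zpowers, Submonoid.mem_powers_iff] at hx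
        obtain ⟨i, rfl⟩ := hx
        induction i with
        | zero => simp
        | succ i ih =>
          have := mul_mem hzh (hNE h hh _ ih)
          rw [pow_succ']
          convert this using 1
          group)
    have hcY : c ∈ Y := by
      have := mul_mem hz ((hmemN _).1 hcN).1
      rwa [mul_inv_cancel_left] at this
    have hcN' : c ∈ N := hfix c hcY (mul_inv_eq_iff_eq_mul.2
      (mem_centralizer_iff.1 hcC h (mem_zpowers h)))
    have h2 := mul_mem hcN' (inv_mem hcN)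
    rwa [mul_inv_rev, inv_inv, ← mul_assoc, mul_inv_cancel, one_mul] at h2
  have hinvN : ∀ h ∈ E, (∀ y ∈ Y, h * y * h⁻¹ = y → y ∈ N) →
      ∀ y ∈ Y, y * (h * y * h⁻¹) ∈ N := by
    intro h hh hfix y hy
    refine hcos h hh hfix _ (mul_mem hy (hYE h hh y hy)) ?_
    have h1 := hcomm _ (inv_mem (hYE h hh y hy)) _ (inv_mem hy)
    have h2 : (y * (h * y * h⁻¹))⁻¹ * (h * (y * (h * y * h⁻¹)) * h⁻¹) =
        (h * y * h⁻¹)⁻¹ * y⁻¹ * (h * y * h⁻¹) * y := by
      rw [show h * (y * (h * y * h⁻¹)) * h⁻¹ = h * y * h⁻¹ * (h * (h * y * h⁻¹) * h⁻¹) by group,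
        hsq h hh y (hYP hy)]
      group
    rw [h2]
    simpa [mul_assoc] using h1
  -- every element acts as `1` or as `g`
  have hdich : ∀ h ∈ E, (∀ y ∈ Y, h * y * h⁻¹ = y) ∨ (∀ y ∈ Y, h * y * h⁻¹ = g * y * g⁻¹) := by
    intro h hh
    by_contra hcon
    push Not at hcon
    obtain ⟨⟨y1, hy1, hy1'⟩, y2, hy2, hy2'⟩ := hcon
    have hfix : ∀ f ∈ E, (∃ y ∈ Y, f * y * f⁻¹ ≠ y) → ∀ y ∈ Y, f * y * f⁻¹ = y → y ∈ N := by
      rintro f hf ⟨y', hy', hne⟩ y hy hyf
      refine (hmemN y).2 ⟨hy, hproper (Y ⊓ centralizer {f}) inf_le_left ?_ ?_ y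
        ⟨hy, mem_centralizer_singleton_iff.2 (mul_inv_eq_iff_eq_mul.1 hyf).symm⟩⟩
      · rintro e he z ⟨hz, hzf⟩
        refine ⟨hYE e he z hz, mem_centralizer_singleton_iff.2
          (mul_inv_eq_iff_eq_mul.1 ?_).symm⟩
        rw [hab f hf e he z (hYP hz)]
        replace hzf : z ∈ centralizer ({f} : Set G) := hzf
        rw [mem_centralizer_singleton_iff] at hzf
        rw [mul_inv_eq_iff_eq_mul.2 hzf.symm]
      · intro hle
        have : y' ∈ centralizer ({f} : Set G) := (hle hy').2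
        rw [mem_centralizer_singleton_iff] at this
        exact hne (mul_inv_eq_iff_eq_mul.2 this.symm)
    have hg' : ∀ y ∈ Y, g * y * g⁻¹ = y → y ∈ N := fun y hy hyg => (hmemN y).2 ⟨hy, hyg⟩
    have hgh : ∃ y ∈ Y, g * h * y * (g * h)⁻¹ ≠ y := by
      refine ⟨y2, hy2, fun heq => hy2' ?_⟩
      have h3 : g * (h * y2 * h⁻¹) * g⁻¹ = y2 := Eq.trans (by group) heq
      calc h * y2 * h⁻¹ = g * (g * (h * y2 * h⁻¹) * g⁻¹) * g⁻¹ :=
            (hsq g hg _ (hYP (hYE h hh y2 hy2))).symm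
        _ = g * y2 * g⁻¹ := by rw [h3]
    -- all three invert `Y / N`
    apply hy0g
    refine ((hmemN y0).1 ?_).2
    have a1 := hinvN g hg hg' y0 hy0
    have a2 := hinvN h hh (hfix h hh ⟨y1, hy1, hy1'⟩) y0 hy0
    have a3 := hinvN (g * h) (mul_mem hg hh) (hfix _ (mul_mem hg hh) hgh) y0 hy0
    have a4 : g * y0 * g⁻¹ * (g * h * y0 * (g * h)⁻¹) ∈ N := by
      have := hNE g hg _ a2
      rwa [← conj_mul, show g * (h * y0 * h⁻¹) * g⁻¹ = g * h * y0 * (g * h)⁻¹ by group] at this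
    have a5 : (g * y0 * g⁻¹)⁻¹ * y0 ∈ N := by
      have h4 := mul_mem a3 (inv_mem a4)
      have h5 : y0 * (g * h * y0 * (g * h)⁻¹) * (g * y0 * g⁻¹ * (g * h * y0 * (g * h)⁻¹))⁻¹ =
          y0 * (g * y0 * g⁻¹)⁻¹ := by group
      rw [h5] at h4
      have h6 := hNnorm y0⁻¹ (inv_mem hy0) _ h4
      simpa [mul_assoc] using h6
    have a6 : y0 * y0 ∈ N := by
      have h7 := mul_mem a1 a5
      rwa [mul_assoc, mul_inv_cancel_left] at h7
    obtain ⟨b, hb⟩ := hYr ⟨y0, hy0⟩
    have hb' : y0 ^ r ^ b = 1 := by simpa [Subtype.ext_iff] using hb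
    obtain ⟨t, ht⟩ := (hr.odd_of_ne_two hr2).pow (n := b)
    rw [ht, pow_succ', pow_mul, pow_two] at hb'
    rw [eq_inv_of_mul_eq_one_left hb']
    exact inv_mem (pow_mem a6 t)
  -- an inverted element
  set c := y0⁻¹ * (g * y0 * g⁻¹) with hc
  have hcY : c ∈ Y := mul_mem (inv_mem hy0) (hYE g hg y0 hy0)
  have hcne : c ≠ 1 := fun h => hy0g (inv_mul_eq_one.1 h).symm
  have hcg : g * c * g⁻¹ = c⁻¹ := by
    rw [hc, ← conj_mul, hsq g hg y0 (hYP hy0)]
    group
  obtain ⟨n, hn⟩ := hYr ⟨c, hcY⟩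
  have hn' : c ^ r ^ n = 1 := by simpa [Subtype.ext_iff] using hn
  obtain ⟨i, -, hi⟩ := (Nat.dvd_prime_pow hr).1 (orderOf_dvd_of_pow_eq_one hn')
  obtain ⟨i', rfl⟩ : ∃ i', i = i' + 1 := by
    refine ⟨i - 1, ?_⟩
    rcases Nat.eq_zero_or_pos i with h | h
    · rw [h, pow_zero, orderOf_eq_one_iff] at hi
      exact absurd hi hcne
    · omega
  refine ⟨c ^ r ^ i', hYP (pow_mem hcY _), fun h => ?_, ?_, ?_, fun h hh => ?_⟩
  · have := orderOf_dvd_of_pow_eq_one h
    rw [hi] at this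
    have := (Nat.pow_dvd_pow_iff_le_right hr.one_lt).1 this
    omega
  · rw [← pow_mul, ← pow_succ, ← hi, pow_orderOf_eq_one]
  · rw [← conj_pow, hcg, inv_pow]
  · rcases hdich h hh with h1 | h1
    · exact Or.inl (h1 _ (pow_mem hcY _))
    · refine Or.inr ?_
      rw [h1 _ (pow_mem hcY _), ← conj_pow, hcg, inv_pow]

end Eigen

section Main

variable {G : Type*} [Group G] [Finite G]

theorem not_dvd_card_of_no_involution {H : Type*} [Group H] [Finite H]
    (h : ∀ x : H, x ^ 2 = 1 → x = 1) : ¬ 2 ∣ Nat.card H := by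
  intro hd
  obtain ⟨x, hx⟩ := exists_prime_orderOf_dvd_card' 2 hd
  have := h x (by rw [← hx]; exact pow_orderOf_eq_one x)
  rw [this, orderOf_one] at hx
  omega

theorem not_pow_two_sub_one_dvd_factorial {n : ℕ} (hn : 2 ≤ n) :
    ¬ (2 ^ n - 1) ∣ Nat.factorial n := by
  intro hd
  by_cases h6 : n = 6
  · subst h6
    revert hd
    decide
  obtain ⟨q, hq, hqd, hqprim⟩ := CfsgLib.Zsigmondy.exists_primitive_prime 2 n (by norm_num)
    (by omega) (fun h => h6 h.2) (fun ⟨h2, m, hm⟩ => by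
      rcases m with _ | _ | m
      · simp at hm
      · simp at hm
      · rw [pow_succ, pow_succ] at hm
        have := Nat.one_le_two_pow (n := m)
        omega)
  haveI : Fact q.Prime := ⟨hq⟩
  have hqn : q ≤ n := hq.dvd_factorial.1 (hqd.trans hd)
  have hq2 : q ≠ 2 := by
    rintro rfl
    have h1 : 2 ∣ 2 ^ n := dvd_pow_self 2 (by omega)
    have h2 : 1 ≤ 2 ^ n := Nat.one_le_two_pow
    omega
  have hfer : q ∣ 2 ^ (q - 1) - 1 := by
    have hcop : (2 : ℕ).Coprime q := (Nat.coprime_primes Nat.prime_two hq).2 hq2.symm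
    have := Nat.ModEq.pow_card_sub_one_eq_one hq hcop
    exact (Nat.modEq_iff_dvd' Nat.one_le_two_pow).1 this.symm
  exact hqprim (q - 1) (by have := hq.two_le; omega) (by have := hq.two_le; omega) hfer

/-- Without `O(G)`, the `2`-core of a solvable group with one class of at least two involutions
is a Sylow `2`-subgroup. -/
theorem not_dvd_index_pCore_two (hG : Group.IsSolvable G) (hO : pPrimeCore 2 G = ⊥)
    (hconj : ∀ x y : G, x ≠ 1 → x ^ 2 = 1 → y ≠ 1 → y ^ 2 = 1 → IsConj x y)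
    (htwo : ∃ x y : G, x ≠ y ∧ x ≠ 1 ∧ x ^ 2 = 1 ∧ y ≠ 1 ∧ y ^ 2 = 1) :
    ¬ 2 ∣ (pCore 2 G).index := by
  classical
  haveI := hG
  haveI : Fact (Nat.Prime 2) := ⟨Nat.prime_two⟩
  obtain ⟨x0, y0, hxy0, hx0, hx02, hy0, hy02⟩ := htwo
  set T := pCore 2 G with hT
  haveI hTn : T.Normal := pCore_normal 2 G
  have hTp : IsPGroup 2 T := CfsgLib.PLocal.isPGroup_pCore 2 G
  have hCT : centralizer (T : Set G) ≤ T :=
    CfsgLib.PLocal.centralizer_pCore_le CfsgLib.PLocal.isPSolvable_of_isSolvable hO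
  haveI : Group.IsNilpotent T := hTp.isNilpotent
  have hTne : T ≠ ⊥ := by
    intro h
    have h1 : x0 ∈ T := hCT (by rw [h]; intro z hz; rw [SetLike.mem_coe, mem_bot] at hz; simp [hz])
    rw [h, mem_bot] at h1
    exact hx0 h1
  -- all involutions are central in `T`
  haveI : Nontrivial T := (nontrivial_iff_ne_bot T).2 hTne
  obtain ⟨z, hz, hzc, hzo⟩ := CfsgLib.OddOrder.BG4.exists_central_orderOf_prime hTp
    (N := (⊤ : Subgroup T)) top_ne_bot
  have hzG : (z : G) ^ 2 = 1 := by rw [← Subgroup.coe_pow, ← hzo, pow_orderOf_eq_one]; simp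
  have hzne : (z : G) ≠ 1 := fun h => by
    rw [OneMemClass.coe_eq_one] at h
    rw [h, orderOf_one] at hzo
    omega
  have hinvT : ∀ x : G, x ^ 2 = 1 → x ∈ T ∧ ∀ t ∈ T, t * x = x * t := by
    intro x hx
    by_cases hx1 : x = 1
    · subst hx1
      exact ⟨one_mem _, fun t _ => by simp⟩
    obtain ⟨c, rfl⟩ := isConj_iff.1 (hconj z x hzne hzG hx1 hx)
    refine ⟨hTn.conj_mem _ z.2 c, fun t ht => ?_⟩
    have h2 : c⁻¹ * t * c ∈ T := by simpa using hTn.conj_mem t ht c⁻¹
    have h3 : c⁻¹ * t * c * z = z * (c⁻¹ * t * c) :=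
      congrArg Subtype.val (mem_center_iff.1 hzc ⟨_, h2⟩)
    calc t * (c * z * c⁻¹) = c * (c⁻¹ * t * c * z) * c⁻¹ := by group
      _ = c * (z * (c⁻¹ * t * c)) * c⁻¹ := by rw [h3]
      _ = c * z * c⁻¹ * t := by group
  let V : Subgroup G :=
    { carrier := {x | x ^ 2 = 1}
      one_mem' := one_pow 2
      mul_mem' := fun {a b} ha hb => by
        show (a * b) ^ 2 = 1
        have hab : Commute a b := (hinvT b hb).2 a (hinvT a ha).1
        rw [hab.mul_pow, (ha : a ^ 2 = 1), (hb : b ^ 2 = 1), one_mul]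
      inv_mem' := fun {a} ha => by
        show a⁻¹ ^ 2 = 1
        rw [inv_pow, (ha : a ^ 2 = 1), inv_one] }
  have hV : ∀ v, v ∈ V ↔ v ^ 2 = 1 := fun v => Iff.rfl
  have hVT : V ≤ T := fun v hv => (hinvT v hv).1
  haveI hVn : V.Normal := ⟨fun v hv g => by
    rw [hV] at hv ⊢
    rw [conj_pow, hv]
    simp⟩
  have hVinv : ∀ U : Subgroup G, U.Normal → U ≤ V → (∃ u ∈ U, u ≠ 1) → V ≤ U := by
    rintro U hU hUV ⟨u, hu, hu1⟩ v hv
    by_cases hv1 : v = 1
    · exact hv1 ▸ one_mem _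
    · obtain ⟨c, rfl⟩ := isConj_iff.1 (hconj u v hu1 (hUV hu) hv1 hv)
      exact hU.conj_mem u hu c
  obtain ⟨n, hn⟩ := IsPGroup.iff_card.1 (hTp.to_le hVT)
  have hn2 : 2 ≤ n := by
    by_contra hlt
    have hle : Nat.card V ≤ 2 := by
      rw [hn]
      calc 2 ^ n ≤ 2 ^ 1 := Nat.pow_le_pow_right (by norm_num) (by omega)
        _ = 2 := by norm_num
    haveI := Fintype.ofFinite V
    rw [Nat.card_eq_fintype_card] at hle
    have h3 : ({⟨1, one_mem V⟩, ⟨x0, hx02⟩, ⟨y0, hy02⟩} : Finset V).card = 3 :=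
      Finset.card_eq_three.2 ⟨_, _, _, fun h => hx0 (congrArg Subtype.val h).symm,
        fun h => hy0 (congrArg Subtype.val h).symm, fun h => hxy0 (congrArg Subtype.val h), rfl⟩
    have := Finset.card_le_univ ({⟨1, one_mem V⟩, ⟨x0, hx02⟩, ⟨y0, hy02⟩} : Finset V)
    omega
  set C := centralizer (V : Set G) with hC
  haveI hCn : C.Normal := by rw [hC]; infer_instance
  have hmemC : ∀ c, c ∈ C ↔ ∀ v ∈ V, v * c = c * v := fun c => mem_centralizer_iff
  have hTC : T ≤ C := fun t ht => (hmemC t).2 fun v hv => ((hinvT v hv).2 t ht).symm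
  -- `|G : C|` is odd
  have hodd : ¬ 2 ∣ C.index := by
    rw [index_eq_card]
    intro hdvd
    have hnt : Nontrivial (G ⧸ C) := by
      rw [← Finite.one_lt_card_iff_nontrivial]
      exact Nat.le_of_dvd Nat.card_pos hdvd
    have hFne := CfsgLib.Solvable.fittingSubgroup_ne_bot (G := G ⧸ C)
    obtain ⟨r, hr, hrne⟩ : ∃ r : ℕ, r.Prime ∧ pCore r (G ⧸ C) ≠ ⊥ := by
      by_contra! h
      exact hFne (eq_bot_iff.2 ((CfsgLib.Solvable.fittingSubgroup_eq_iSup (G := G ⧸ C)).le.trans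
        (iSup_le fun p => (h p p.2).le)))
    haveI : Fact r.Prime := ⟨hr⟩
    set L := (pCore r (G ⧸ C)).comap (QuotientGroup.mk' C) with hL
    haveI : (pCore r (G ⧸ C)).Normal := pCore_normal r _
    haveI hLn : L.Normal := by rw [hL]; infer_instance
    have hCL : C ≤ L := fun c hc => by
      rw [hL, mem_comap, QuotientGroup.mk'_apply, (QuotientGroup.eq_one_iff c).2 hc]
      exact one_mem _
    have hLC : ¬ L ≤ C := by
      intro h
      apply hrne
      rw [← map_comap_eq_self_of_surjective (QuotientGroup.mk'_surjective C) (pCore r (G ⧸ C)),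
        ← hL, Subgroup.map_eq_bot_iff, QuotientGroup.ker_mk']
      exact h
    have hidx : ∃ m, C.relIndex L = r ^ m := by
      have h1 := CfsgLib.PLength.relIndex_comap_mk' C (pCore r (G ⧸ C))
      rw [← hL] at h1
      obtain ⟨m, hm⟩ := IsPGroup.iff_card.1 (CfsgLib.PLocal.isPGroup_pCore r (G ⧸ C))
      exact ⟨m, h1.trans hm⟩
    obtain ⟨m, hm⟩ := hidx
    obtain ⟨Q⟩ : Nonempty (Sylow r L) := inferInstance
    set P := (Q : Subgroup L).map L.subtype with hP
    have hCP : C ⊔ P = L := by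
      refine le_antisymm (sup_le hCL (map_subtype_le _)) ?_
      rw [← relIndex_eq_one]
      have h1 : (C ⊔ P).relIndex L ∣ C.relIndex L := relIndex_dvd_of_le_left L le_sup_left
      have h2 : (C ⊔ P).relIndex L ∣ P.relIndex L := relIndex_dvd_of_le_left L le_sup_right
      have h3 : P.relIndex L = (Q : Subgroup L).index := by
        rw [hP, relIndex, subgroupOf, comap_map_eq_self_of_injective L.subtype_injective]
      obtain ⟨j, -, hj⟩ := (Nat.dvd_prime_pow hr).1 (hm ▸ h1)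
      rcases Nat.eq_zero_or_pos j with h | h
      · rw [hj, h, pow_zero]
      · exfalso
        apply Q.not_dvd_index
        rw [← h3]
        exact (dvd_pow_self r h.ne').trans (hj ▸ h2)
    have hfixL : ∀ v ∈ V, (∀ p ∈ P, p * v = v * p) → v = 1 := by
      intro v hv hvP
      by_contra hv1
      set U := V ⊓ centralizer (L : Set G) with hU
      have hvU : v ∈ U := by
        refine ⟨hv, ?_⟩
        have h1 : L ≤ centralizer ({v} : Set G) := by
          rw [← hCP]
          refine sup_le (fun c hc => mem_centralizer_singleton_iff.2 ((hmemC c).1 hc v hv).symm)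
            fun p hp => mem_centralizer_singleton_iff.2 (hvP p hp)
        exact fun l hl => mem_centralizer_singleton_iff.1 (h1 hl)
      have hVU := hVinv U inferInstance inf_le_left ⟨v, hvU, hv1⟩
      exact hLC fun l hl => (hmemC l).2 fun w hw => ((hVU hw).2 l hl).symm
    by_cases hr2 : r = 2
    · subst hr2
      haveI := (Q.isPGroup').map L.subtype
      obtain ⟨S, hS⟩ := IsPGroup.exists_le_sylow ((Q.isPGroup').map L.subtype)
      haveI : Group.IsNilpotent (S : Subgroup G) := S.isPGroup'.isNilpotent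
      have hVS : V ≤ (S : Subgroup G) := hVT.trans (CfsgLib.PLocal.pCore_le_sylow S)
      obtain ⟨w, hw, hwc, hwo⟩ := CfsgLib.OddOrder.BG4.exists_central_orderOf_prime S.isPGroup'
        (N := V.subgroupOf (S : Subgroup G)) (by
          rw [Ne, subgroupOf_eq_bot, disjoint_iff, inf_of_le_left hVS, eq_bot_iff]
          exact fun h => hx0 ((mem_bot).1 (h hx02)))
      have := hfixL (w : G) hw fun p hp =>
        congrArg Subtype.val (mem_center_iff.1 hwc ⟨p, hS hp⟩)
      rw [OneMemClass.coe_eq_one] at this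
      rw [this, orderOf_one] at hwo
      omega
    · -- `N(P)` has odd order and covers `G / C`
      have hfr : normalizer (P : Set G) ⊔ L = ⊤ := Sylow.normalizer_sup_eq_top Q
      have hcov : C ⊔ normalizer (P : Set G) = ⊤ := by
        rw [eq_top_iff, ← hfr, ← hCP]
        exact sup_le le_sup_right (sup_le le_sup_left (le_normalizer.trans le_sup_right))
      have hrel := relIndex_sup_right (K := C) (H := normalizer (P : Set G))
      rw [sup_comm, hcov, relIndex_top_right, index_eq_card] at hrel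
      have hd2 : 2 ∣ Nat.card (normalizer (P : Set G)) := by
        refine dvd_trans (hrel ▸ hdvd) ?_
        exact relIndex_dvd_card _ _
      refine not_dvd_card_of_no_involution (fun x hx => ?_) hd2
      have hxV : (x : G) ∈ V := by rw [hV, ← Subgroup.coe_pow, hx, Subgroup.coe_one]
      refine Subtype.ext (hfixL _ hxV fun p hp => ?_)
      -- a commutator in `V ∩ P`
      have h1 : (x : G) * p * (x : G)⁻¹ * p⁻¹ ∈ V := by
        have := mul_mem hxV (hVn.conj_mem _ (inv_mem hxV) p)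
        simpa [mul_assoc] using this
      have h2 : (x : G) * p * (x : G)⁻¹ * p⁻¹ ∈ P :=
        mul_mem ((mem_normalizer_iff.1 x.2 p).1 hp) (inv_mem hp)
      have hd : Disjoint V P := by
        refine disjoint_iff.2 (CfsgLib.PLocal.disjoint_of_isPGroup_of_coprime (p := 2) (hTp.to_le hVT) ?_)
        obtain ⟨a, ha⟩ := IsPGroup.iff_card.1 ((Q.isPGroup').map L.subtype)
        rw [← hP] at ha
        rw [ha]
        exact Nat.Coprime.pow_left _ ((Nat.coprime_primes hr Nat.prime_two).2 hr2)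
      have h3 := disjoint_def.1 hd h1 h2
      exact (mul_inv_eq_iff_eq_mul.1 (mul_inv_eq_one.1 h3)).symm
  -- the argument by contradiction
  intro hdvd
  set q := QuotientGroup.mk' T with hq
  have hQ2 : pCore 2 (G ⧸ T) = ⊥ := CfsgLib.PLocal.pCore_quotient_pCore_eq_bot 2 G
  set Cb := C.map q with hCb
  haveI hCbn : Cb.Normal := hCn.map q (QuotientGroup.mk'_surjective T)
  haveI : (fittingSubgroup Cb).Characteristic := CfsgLib.Solvable.fittingSubgroup_characteristic
  haveI hFbn' := CfsgLib.PLocal.normal_map_subtype Cb (fittingSubgroup Cb)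
  set Fb := (fittingSubgroup Cb).map Cb.subtype with hFb
  haveI hFnil : Group.IsNilpotent Fb := by
    haveI := CfsgLib.Solvable.fittingSubgroup_isNilpotent (G := Cb)
    exact Group.nilpotent_of_surjective
      ((fittingSubgroup Cb).equivMapOfInjective _ Cb.subtype_injective).toMonoidHom
      (MulEquiv.surjective _)
  have hFodd : ¬ 2 ∣ Nat.card Fb := by
    intro hd
    obtain ⟨Q⟩ : Nonempty (Sylow 2 Fb) := inferInstance
    have htfae : Group.IsNilpotent Fb ↔
        ∀ (p : ℕ) (_hp : Fact p.Prime) (P : Sylow p Fb), (↑P : Subgroup Fb).Normal :=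
      (Group.isNilpotent_of_finite_tfae (G := Fb)).out 0 3
    haveI : (Q : Subgroup Fb).Normal := htfae.1 hFnil 2 inferInstance Q
    haveI : (Q : Subgroup Fb).Characteristic := Sylow.characteristic_of_normal Q inferInstance
    haveI := CfsgLib.PLocal.normal_map_subtype Fb (Q : Subgroup Fb)
    have h1 : (Q : Subgroup Fb).map Fb.subtype ≤ ⊥ := hQ2 ▸
      CfsgLib.PLocal.le_pCore (Q.isPGroup'.map Fb.subtype)
    rw [le_bot_iff, map_eq_bot_iff_of_injective _ Fb.subtype_injective] at h1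
    exact Q.ne_bot_of_dvd_card hd h1
  have hFcent : ∀ c ∈ Cb, (∀ f ∈ Fb, f * c = c * f) → c ∈ Fb := by
    intro c hc h
    haveI : Group.IsSolvable Cb := inferInstance
    refine ⟨⟨c, hc⟩, CfsgLib.Solvable.centralizer_fittingSubgroup_le (G := Cb) fun f hf => ?_, rfl⟩
    exact Subtype.ext (h _ ⟨f, hf, rfl⟩)
  set M := Fb.comap q with hM
  haveI hMn : M.Normal := by rw [hM]; infer_instance
  have hTM : T ≤ M := fun t ht => by
    rw [hM, mem_comap, hq, QuotientGroup.mk'_apply, (QuotientGroup.eq_one_iff t).2 ht]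
    exact one_mem _
  have hMC : M ≤ C := by
    intro x hx
    obtain ⟨c, hc, hcx⟩ := map_subtype_le _ hx
    have h1 : c⁻¹ * x ∈ C := hTC (QuotientGroup.eq.1 hcx)
    have := mul_mem hc h1
    rwa [mul_inv_cancel_left] at this
  -- a complement of `T` in `M`
  have hTMidx : T.relIndex M = Nat.card Fb := CfsgLib.PLength.relIndex_comap_mk' T Fb
  obtain ⟨b, hb⟩ := IsPGroup.iff_card.1 hTp
  haveI : (T.subgroupOf M).Normal := hTn.subgroupOf M
  have hcop0 : (Nat.card (T.subgroupOf M)).Coprime (T.subgroupOf M).index := by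
    rw [Nat.card_congr (subgroupOfEquivOfLe hTM).toEquiv, hb]
    exact Nat.Coprime.pow_left _ ((Nat.prime_two.coprime_iff_not_dvd).2 (hTMidx ▸ hFodd :))
  obtain ⟨P0, hP0⟩ := exists_right_complement'_of_coprime hcop0
  set P := P0.map M.subtype with hP
  have hPM : P ≤ M := map_subtype_le _
  have hPcard : Nat.card P = Nat.card Fb := by
    rw [hP, card_map_of_injective M.subtype_injective, ← hTMidx]
    exact hP0.symm.index_eq_card.symm.trans rfl
  have hPodd : ¬ 2 ∣ Nat.card P := hPcard ▸ hFodd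
  have hTP : Disjoint T P := disjoint_iff.2 (CfsgLib.PLocal.disjoint_of_isPGroup_of_coprime hTp
    (CfsgLib.PLocal.not_dvd_iff_coprime.2 hPodd))
  have hTPM : T ⊔ P = M := by
    have := congrArg (Subgroup.map M.subtype) hP0.sup_eq_top
    rwa [Subgroup.map_sup, map_subgroupOf_eq_of_le hTM, ← hP, ← MonoidHom.range_eq_map,
      range_subtype] at this
  have hPFb : P.map q = Fb := by
    have h1 : M.map q = Fb := map_comap_eq_self_of_surjective (QuotientGroup.mk'_surjective T) Fb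
    rw [← h1, ← hTPM, Subgroup.map_sup, (Subgroup.map_eq_bot_iff T).2
      (QuotientGroup.ker_mk' T).ge, bot_sup_eq]
  have hhall : IsPiHall {p : ℕ | p ≠ 2} (P.subgroupOf M) := by
    rw [hP, subgroupOf, comap_map_eq_self_of_injective M.subtype_injective]
    constructor
    · rintro p - hd rfl
      exact hPodd (by rwa [hP, card_map_of_injective M.subtype_injective])
    · intro p hp hp2 hd
      rw [hP0.index_eq_card, Nat.card_congr (subgroupOfEquivOfLe hTM).toEquiv, hb] at hd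
      exact hp2 ((Nat.prime_dvd_prime_iff_eq hp Nat.prime_two).1 (hp.dvd_of_dvd_pow hd))
  set N := normalizer (P : Set G) with hN
  have hTN : T ⊔ N = ⊤ := by
    have h1 := CfsgLib.Solvable.frattini_argument_hall (L := M) inferInstance hPM hhall
    rw [eq_top_iff, ← h1, ← hTPM]
    exact sup_le (sup_le le_sup_left (le_normalizer.trans le_sup_right)) le_sup_right
  -- `D = C_T(P)`
  set D := T ⊓ N with hD
  have hDP : ∀ d ∈ D, ∀ p ∈ P, d * p = p * d := by
    intro d hd p hp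
    have h1 : d * p * d⁻¹ * p⁻¹ ∈ T := by
      have := mul_mem hd.1 (hTn.conj_mem _ (inv_mem hd.1) p)
      simpa [mul_assoc] using this
    have h2 : d * p * d⁻¹ * p⁻¹ ∈ P := mul_mem ((mem_normalizer_iff.1 hd.2 p).1 hp) (inv_mem hp)
    exact mul_inv_eq_iff_eq_mul.1 (mul_inv_eq_one.1 (disjoint_def.1 hTP h1 h2))
  have hVD : V ≤ D := fun v hv => ⟨hVT hv, mem_normalizer_iff.2 fun p => by
    constructor
    · intro hp
      rw [(hmemC p).1 (hMC (hPM hp)) v hv, mul_inv_cancel_right]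
      exact hp
    · intro hp
      have h1 : v * p * v⁻¹ = p := by
        have h2 := (hmemC _).1 (hMC (hPM hp)) v hv
        have h3 : v * (v * p * v⁻¹) * v⁻¹ = v * p * v⁻¹ := by
          rw [h2]; group
        exact mul_left_cancel (mul_right_cancel h3)
      rwa [h1] at hp⟩
  -- a Sylow subgroup of `N(P)`
  obtain ⟨R0⟩ : Nonempty (Sylow 2 N) := inferInstance
  set R := (R0 : Subgroup N).map N.subtype with hR
  have hRN : R ≤ N := map_subtype_le _
  have hRp : IsPGroup 2 R := R0.isPGroup'.map _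
  have hDR : D ≤ R := by
    haveI : (D.subgroupOf N).Normal := by
      rw [hD, inf_subgroupOf_right]
      exact hTn.subgroupOf N
    have h1 : IsPGroup 2 (D.subgroupOf N) :=
      (hTp.to_le inf_le_left).of_equiv (subgroupOfEquivOfLe inf_le_right).symm
    have h2 : D.subgroupOf N ≤ R0 := (CfsgLib.PLocal.le_pCore h1).trans
      (CfsgLib.PLocal.pCore_le_sylow R0)
    intro d hd
    exact ⟨⟨d, hd.2⟩, h2 hd, rfl⟩
  have hRC : R ≤ C := by
    intro x hx
    obtain ⟨a, ha⟩ := hRp ⟨x, hx⟩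
    have ha' : x ^ 2 ^ a = 1 := by simpa [Subtype.ext_iff] using ha
    have h1 : orderOf (QuotientGroup.mk' C x) ∣ (2 ^ a).gcd (Nat.card (G ⧸ C)) :=
      Nat.dvd_gcd (orderOf_dvd_of_pow_eq_one (by rw [← map_pow, ha', map_one]))
        (orderOf_dvd_natCard _)
    rw [Nat.Coprime.gcd_eq_one (Nat.Coprime.pow_left _ ((Nat.prime_two.coprime_iff_not_dvd).2
      (by rwa [← index_eq_card]))), Nat.dvd_one, orderOf_eq_one_iff] at h1
    exact (QuotientGroup.eq_one_iff x).1 h1
  have hDlt : ¬ R ≤ D := by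
    intro hle
    have h1 : D.relIndex N = T.index := by
      rw [hD, inf_relIndex_right, ← relIndex_top_right, ← hTN, sup_comm,
        relIndex_sup_right]
    have h2 : R.relIndex N = (R0 : Subgroup N).index := by
      rw [hR, relIndex, subgroupOf, comap_map_eq_self_of_injective N.subtype_injective]
    have h3 : R = D := le_antisymm hle hDR
    rw [h3, h1] at h2
    exact R0.not_dvd_index (h2 ▸ hdvd)
  have hRP : ∀ x ∈ R, (∀ p ∈ P, x * p = p * x) → x ∈ D := by
    intro x hx hxP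
    refine ⟨?_, hRN hx⟩
    have hxF : q x ∈ Fb := hFcent _ ⟨x, hRC hx, rfl⟩ fun f hf => by
      rw [← hPFb] at hf
      obtain ⟨p, hp, rfl⟩ := hf
      rw [← map_mul, ← map_mul, hxP p hp]
    obtain ⟨a, ha⟩ := hRp ⟨x, hx⟩
    have ha' : x ^ 2 ^ a = 1 := by simpa [Subtype.ext_iff] using ha
    have h1 : orderOf (⟨q x, hxF⟩ : Fb) ∣ (2 ^ a).gcd (Nat.card Fb) :=
      Nat.dvd_gcd (orderOf_dvd_of_pow_eq_one (Subtype.ext (by
        rw [Subgroup.coe_pow, ← map_pow, ha', map_one, Subgroup.coe_one]))) (orderOf_dvd_natCard _)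
    rw [Nat.Coprime.gcd_eq_one (Nat.Coprime.pow_left _ ((Nat.prime_two.coprime_iff_not_dvd).2
      hFodd)), Nat.dvd_one, orderOf_eq_one_iff] at h1
    exact (QuotientGroup.eq_one_iff x).1 (congrArg Subtype.val h1)
  -- an odd-order group covering `G / C`
  set NR := N ⊓ normalizer (R : Set G) with hNR
  have hcovR : C ⊔ NR = ⊤ := by
    set L := C ⊓ N with hL
    haveI : (L.subgroupOf N).Normal := by
      rw [hL, inf_subgroupOf_right]; exact hCn.subgroupOf N
    have hRL : (R0 : Subgroup N) ≤ L.subgroupOf N := fun x hx =>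
      mem_subgroupOf.2 ⟨hRC ⟨x, hx, rfl⟩, x.2⟩
    have hfr := Sylow.normalizer_sup_eq_top' R0 hRL
    have h2 : ∀ x : N, x ∈ (normalizer ((R0 : Subgroup N) : Set N) ⊔ L.subgroupOf N) →
        (x : G) ∈ C ⊔ NR := by
      intro x hx
      have hmap := mem_map_of_mem N.subtype hx
      rw [Subgroup.map_sup] at hmap
      refine (sup_le ?_ ?_ : _ ≤ C ⊔ NR) hmap
      · refine le_trans ?_ le_sup_right
        rw [hNR, hR]
        exact le_inf (map_subtype_le _) (le_normalizer_map _)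
      · rintro _ ⟨y, hy, rfl⟩
        exact mem_sup_left hy.1
    rw [eq_top_iff, ← hTN]
    exact sup_le (hTC.trans le_sup_left) fun x hx => h2 ⟨x, hx⟩ (hfr ▸ mem_top _)
  have hRNR : R ≤ NR := le_inf hRN le_normalizer
  haveI : (R.subgroupOf NR).Normal := normal_subgroupOf_of_le_normalizer inf_le_right
  have hcop1 : (Nat.card (R.subgroupOf NR)).Coprime (R.subgroupOf NR).index := by
    obtain ⟨a, ha⟩ := IsPGroup.iff_card.1 hRp
    rw [Nat.card_congr (subgroupOfEquivOfLe hRNR).toEquiv, ha]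
    refine Nat.Coprime.pow_left _ ((Nat.prime_two.coprime_iff_not_dvd).2 fun hd => ?_)
    have h2 : R.relIndex N = (R0 : Subgroup N).index := by
      rw [hR, relIndex, subgroupOf, comap_map_eq_self_of_injective N.subtype_injective]
    exact R0.not_dvd_index (h2 ▸ hd.trans (Dvd.intro _ (relIndex_mul_relIndex R NR N hRNR inf_le_left)))
  obtain ⟨H0', hH0'⟩ := exists_right_complement'_of_coprime hcop1
  set H := H0'.map NR.subtype with hH
  have hHNR : H ≤ NR := map_subtype_le _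
  have hHodd : ¬ 2 ∣ Nat.card H := by
    rw [hH, card_map_of_injective NR.subtype_injective, ← hH0'.symm.index_eq_card]
    intro hd
    have h2 : R.relIndex N = (R0 : Subgroup N).index := by
      rw [hR, relIndex, subgroupOf, comap_map_eq_self_of_injective N.subtype_injective]
    exact R0.not_dvd_index (h2 ▸ hd.trans (Dvd.intro _ (relIndex_mul_relIndex R NR N hRNR inf_le_left)))
  have hHN : H ≤ N := hHNR.trans inf_le_left
  have hCH : C ⊔ H = ⊤ := by
    have h1 := congrArg (Subgroup.map NR.subtype) hH0'.sup_eq_top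
    rw [Subgroup.map_sup, map_subgroupOf_eq_of_le hRNR, ← hH, ← MonoidHom.range_eq_map,
      range_subtype] at h1
    rw [eq_top_iff, ← hcovR, ← h1]
    exact sup_le le_sup_left (sup_le (hRC.trans le_sup_left) le_sup_right)
  have htrans : ∀ v ∈ V, v ≠ 1 → ∀ w ∈ V, w ≠ 1 → ∃ h ∈ H, h * v * h⁻¹ = w := by
    intro v hv hv1 w hw hw1
    obtain ⟨g, rfl⟩ := isConj_iff.1 (hconj v w hv1 hv hw1 hw)
    obtain ⟨c, hc, h, hh, rfl⟩ := (mem_sup_of_normal_left (s := C) (t := H)).1 (hCH ▸ mem_top g)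
    refine ⟨h, hh, ?_⟩
    have h1 := (hmemC c).1 hc _ (hVn.conj_mem v hv h)
    rw [show c * h * v * (c * h)⁻¹ = c * (h * v * h⁻¹) * c⁻¹ by group, ← h1, mul_inv_cancel_right]
  -- a minimal `H`-invariant subgroup above `D`
  have hconjH : ∀ (U : Subgroup G), (∀ h ∈ H, ∀ x ∈ U, h * x * h⁻¹ ∈ U) →
      H ≤ normalizer (U : Set G) := fun U hU h hh => mem_normalizer_iff.2 fun x =>
    ⟨hU h hh x, fun hx => by simpa [mul_assoc] using hU h⁻¹ (inv_mem hh) _ hx⟩
  have hHD : ∀ h ∈ H, ∀ x ∈ D, h * x * h⁻¹ ∈ D := fun h hh x hx =>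
    mem_inf.2 ⟨hTn.conj_mem x hx.1 h, mul_mem (mul_mem (hHN hh) hx.2) (inv_mem (hHN hh))⟩
  obtain ⟨E, ⟨hDE, hER, hHE, hEne⟩, hEmin⟩ := Set.Finite.exists_minimal
    (s := {E : Subgroup G | D ≤ E ∧ E ≤ R ∧ (∀ h ∈ H, ∀ x ∈ E, h * x * h⁻¹ ∈ E) ∧ ¬ E ≤ D})
    (Set.toFinite _)
    ⟨R, hDR, le_rfl, fun h hh x hx => (mem_normalizer_iff.1 (hHNR hh).2 x).1 hx, hDlt⟩
  have hEp : IsPGroup 2 E := hRp.to_le hER
  have hEN : E ≤ N := hER.trans hRN
  have hEC : E ≤ C := hER.trans hRC
  have hEsq : ∀ e ∈ E, e * e ∈ D ∧ ∀ e' ∈ E, ⁅e, e'⁆ ∈ D := by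
    set K := D ⊔ (frattini E).map E.subtype with hK
    have hKE : K ≤ E := sup_le hDE (map_subtype_le _)
    have hKD : K ≤ D := by
      by_contra hne
      have hKH : ∀ h ∈ H, ∀ x ∈ K, h * x * h⁻¹ ∈ K := by
        intro h hh
        have hle : K ≤ K.comap (MulAut.conj h).toMonoidHom := by
          refine sup_le (fun x hx => mem_sup_left (hHD h hh x hx)) ?_
          rintro _ ⟨x, hx, rfl⟩
          refine mem_sup_right ?_
          let e : E ≃* E :=
            { toFun := fun y => ⟨h * y * h⁻¹, hHE h hh y y.2⟩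
              invFun := fun y => ⟨h⁻¹ * y * h, by simpa using hHE h⁻¹ (inv_mem hh) y y.2⟩
              left_inv := fun y => Subtype.ext (by simp [mul_assoc])
              right_inv := fun y => Subtype.ext (by simp [mul_assoc])
              map_mul' := fun y y' => Subtype.ext (by simp [mul_assoc]) }
          refine ⟨e x, ?_, rfl⟩
          exact characteristic_iff_le_comap.1 inferInstance e hx
        exact hle
      have hEK : E ≤ K := hEmin ⟨le_sup_left, hKE.trans hER, hKH, hne⟩ hKE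
      apply hEne
      have htop : D.subgroupOf E ⊔ frattini E = ⊤ := by
        apply Subgroup.map_injective E.subtype_injective
        rw [Subgroup.map_sup, map_subgroupOf_eq_of_le hDE, ← MonoidHom.range_eq_map,
          range_subtype]
        exact le_antisymm hKE hEK
      have := CfsgLib.Solvable.eq_top_of_sup_frattini htop
      rwa [subgroupOf_eq_top] at this
    intro e he
    refine ⟨hKD (mem_sup_right ⟨⟨e, he⟩ ^ 2, CfsgLib.Solvable.pow_mem_frattini hEp _, ?_⟩),
      fun e' he' => hKD (mem_sup_right ⟨⁅(⟨e, he⟩ : E), ⟨e', he'⟩⁆, ?_, ?_⟩)⟩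
    · simp [pow_two]
    · exact CfsgLib.Solvable.commutator_le_frattini hEp
        (commutator_mem_commutator (mem_top _) (mem_top _))
    · simp [commutatorElement_def]
  -- a Sylow subgroup of `P` on which `E` acts non-trivially
  haveI hPnil : Group.IsNilpotent P := by
    let f : P →* Fb := (q.comp P.subtype).codRestrict Fb fun p => hPFb ▸ ⟨p, p.2, rfl⟩
    have hf : f.ker ≤ center P := by
      intro p hp
      have h1 : (p : G) ∈ T := (QuotientGroup.eq_one_iff _).1 (congrArg Subtype.val (MonoidHom.mem_ker.1 hp))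
      have h2 : p = 1 := Subtype.ext (disjoint_def.1 hTP h1 p.2)
      rw [h2]
      exact one_mem _
    exact Subgroup.isNilpotent_of_ker_le_center f hf
  obtain ⟨r, hrF, Q0, hQ0⟩ : ∃ (r : ℕ) (_ : r ∈ (Nat.card P).primeFactors) (Q0 : Sylow r P),
      ∃ e ∈ E, ∃ p ∈ (Q0 : Subgroup P).map P.subtype, e * p * e⁻¹ ≠ p := by
    by_contra! hcon
    apply hEne
    intro e he
    refine hRP e (hER he) fun p hp => ?_
    have htop := CfsgLib.Solvable.iSup_sylow_eq_top (G := P)
      fun p => Classical.arbitrary (Sylow (p : ℕ) P)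
    have hle : (⊤ : Subgroup P) ≤ (centralizer ({e} : Set G)).comap P.subtype := by
      rw [← htop]
      refine iSup_le fun i x hx => mem_centralizer_singleton_iff.2 ?_
      exact (mul_inv_eq_iff_eq_mul.1 (hcon i i.2 _ e he _ ⟨x, hx, rfl⟩)).symm
    exact (mem_centralizer_singleton_iff.1 (hle (mem_top (⟨p, hp⟩ : P)))).symm
  have hr : r.Prime := Nat.prime_of_mem_primeFactors hrF
  haveI : Fact r.Prime := ⟨hr⟩
  have hr2 : r ≠ 2 := fun h => hPodd (h ▸ Nat.dvd_of_mem_primeFactors hrF)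
  have htfaeP : Group.IsNilpotent P ↔
      ∀ (p : ℕ) (_hp : Fact p.Prime) (S : Sylow p P), (↑S : Subgroup P).Normal :=
    (Group.isNilpotent_of_finite_tfae (G := P)).out 0 3
  haveI : (Q0 : Subgroup P).Normal := htfaeP.1 hPnil r inferInstance Q0
  have hQ0char : (Q0 : Subgroup P).Characteristic := Sylow.characteristic_of_normal Q0 inferInstance
  set Pr := (Q0 : Subgroup P).map P.subtype with hPr
  have hPrP : Pr ≤ P := map_subtype_le _
  have hPrr : IsPGroup r Pr := Q0.isPGroup'.map _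
  have hNPr : ∀ x ∈ N, ∀ p ∈ Pr, x * p * x⁻¹ ∈ Pr := by
    rintro x hx _ ⟨y, hy, rfl⟩
    let e : P ≃* P :=
      { toFun := fun y => ⟨x * y * x⁻¹, (mem_normalizer_iff.1 hx y).1 y.2⟩
        invFun := fun y => ⟨x⁻¹ * y * x, by
          simpa using (mem_normalizer_iff.1 (inv_mem hx) y).1 y.2⟩
        left_inv := fun y => Subtype.ext (by simp [mul_assoc])
        right_inv := fun y => Subtype.ext (by simp [mul_assoc])
        map_mul' := fun y y' => Subtype.ext (by simp [mul_assoc]) }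
    exact ⟨e y, characteristic_iff_le_comap.1 hQ0char e hy, rfl⟩
  have hnontriv : ∀ g ∈ E, g ∉ D → ∃ p ∈ Pr, g * p * g⁻¹ ≠ p := by
    intro g hg hgD
    by_contra! hcon
    set U := E ⊓ centralizer (Pr : Set G) with hU
    have hUH : ∀ h ∈ H, ∀ x ∈ U, h * x * h⁻¹ ∈ U := by
      rintro h hh x ⟨hx, hxc⟩
      refine ⟨hHE h hh x hx, mem_centralizer_iff.2 fun p hp => ?_⟩
      have h1 := hNPr h⁻¹ (inv_mem (hHN hh)) p hp
      rw [inv_inv] at h1
      have h2 := mem_centralizer_iff.1 hxc _ h1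
      calc p * (h * x * h⁻¹) = h * (h⁻¹ * p * h * x) * h⁻¹ := by group
        _ = h * (x * (h⁻¹ * p * h)) * h⁻¹ := by rw [h2]
        _ = h * x * h⁻¹ * p := by group
    have hDU : D ≤ U := le_inf hDE fun d hd => mem_centralizer_iff.2 fun p hp =>
      (hDP d hd p (hPrP hp)).symm
    have hgU : g ∈ U := ⟨hg, mem_centralizer_iff.2 fun p hp =>
      (mul_inv_eq_iff_eq_mul.1 (hcon p hp)).symm⟩
    have hEU : E ≤ U := hEmin ⟨hDU, inf_le_left.trans hER, hUH, fun h => hgD (h hgU)⟩ inf_le_left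
    obtain ⟨e, he, p, hp, hne⟩ := hQ0
    exact hne (mul_inv_eq_iff_eq_mul.2 (mem_centralizer_iff.1 (hEU he).2 p hp).symm)
  have hactsq : ∀ h ∈ E, ∀ y ∈ Pr, h * (h * y * h⁻¹) * h⁻¹ = y := by
    intro h hh y hy
    have := hDP _ (hEsq h hh).1 y (hPrP hy)
    rw [show h * (h * y * h⁻¹) * h⁻¹ = h * h * y * (h * h)⁻¹ by group, this,
      mul_inv_cancel_right]
  have hactab : ∀ h ∈ E, ∀ h' ∈ E, ∀ y ∈ Pr,
      h * (h' * y * h'⁻¹) * h⁻¹ = h' * (h * y * h⁻¹) * h'⁻¹ := by
    intro h hh h' hh' y hy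
    have h3 := hNPr _ (mul_mem (hEN hh') (hEN hh)) y hy
    have := hDP _ ((hEsq h hh).2 h' hh') _ (hPrP h3)
    calc h * (h' * y * h'⁻¹) * h⁻¹ = ⁅h, h'⁆ * (h' * h * y * (h' * h)⁻¹) * ⁅h, h'⁆⁻¹ := by
          rw [commutatorElement_def]; group
      _ = h' * h * y * (h' * h)⁻¹ := by rw [this, mul_inv_cancel_right]
      _ = _ := by group
  -- the critical subgroup
  obtain ⟨K0, hK0c, hK0fr, hK0comm, hK0cent⟩ := CfsgLib.Transfer.exists_critical hTp
  haveI := hK0c
  haveI hKn := CfsgLib.PLocal.normal_map_subtype T K0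
  set K := K0.map T.subtype with hK
  have hKT : K ≤ T := map_subtype_le _
  have hKsq : ∀ x ∈ K, ∀ y ∈ K, x * x * y = y * (x * x) := by
    rintro _ ⟨x, hx, rfl⟩ _ ⟨y, hy, rfl⟩
    have h1 : x * x ∈ (frattini K0).map K0.subtype :=
      ⟨⟨x, hx⟩ ^ 2, CfsgLib.Solvable.pow_mem_frattini (hTp.to_subgroup K0) _, by simp [pow_two]⟩
    exact (congrArg Subtype.val (mem_centralizer_iff.1 (hK0fr h1) y hy)).symm
  have hKcomm : ∀ x ∈ K, ∀ y ∈ K, ∀ z ∈ K, ⁅x, y⁆ ∈ K ∧ ⁅x, y⁆ * z = z * ⁅x, y⁆ := by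
    rintro _ ⟨x, hx, rfl⟩ _ ⟨y, hy, rfl⟩ _ ⟨z, hz, rfl⟩
    have h1 := hK0comm (commutator_mem_commutator hx (mem_top y))
    rw [← map_commutatorElement]
    exact ⟨⟨_, h1.1, rfl⟩,
      (congrArg Subtype.val (mem_centralizer_iff.1 h1.2 z hz)).symm⟩
  have hKcent : ∀ t ∈ T, (∀ y ∈ K, y * t = t * y) → t ∈ K := by
    intro t ht h
    exact ⟨⟨t, ht⟩, hK0cent (mem_centralizer_iff.2 fun y hy => Subtype.ext (h _ ⟨y, hy, rfl⟩)), rfl⟩
  have hVK : V ≤ K := fun v hv => hKcent v (hVT hv) fun y hy => (hinvT v hv).2 y (hKT hy)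
  have hdV : ∀ x ∈ K, ∀ y ∈ K, x * x ∈ V → (x * y)⁻¹ * (y * x) ∈ V := by
    intro x hx y hy hxx
    obtain ⟨-, hcx⟩ := hKcomm x⁻¹ (inv_mem hx) y (hy) x hx
    set c := ⁅x⁻¹, y⁆ with hc
    have h1 : (x * y)⁻¹ * (y * x) = y⁻¹ * c * y := by rw [hc, commutatorElement_def]; group
    have hcy := (hKcomm x⁻¹ (inv_mem hx) y hy y hy).2
    rw [← hc] at hcy
    rw [h1, mul_assoc, hcy, inv_mul_cancel_left, hV]
    have h4 : y * x * y⁻¹ = x * c := by rw [hc, commutatorElement_def]; group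
    have h5 : y * (x * x) * y⁻¹ = x * x := by
      rw [← hKsq x hx y hy, mul_inv_cancel_right]
    have h6 : y * (x * x) * y⁻¹ = x * x * (c * c) := by
      rw [← conj_mul, h4]
      calc x * c * (x * c) = x * (c * x) * c := by group
        _ = _ := by rw [hcx]; group
    rw [h5] at h6
    rw [pow_two]
    exact left_eq_mul.1 h6
  let X : Subgroup G :=
    { carrier := {x | x ∈ K ∧ x * x ∈ V}
      one_mem' := ⟨one_mem _, by rw [one_mul]; exact one_mem _⟩
      mul_mem' := by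
        rintro a b ⟨ha, ha2⟩ ⟨hb, hb2⟩
        refine ⟨mul_mem ha hb, ?_⟩
        have hd := hdV a ha b hb ha2
        have h1 : a * b * (a * b) = a * a * ((b * ((a * b)⁻¹ * (b * a))) * b) := by group
        have h2 : b * ((a * b)⁻¹ * (b * a)) = (a * b)⁻¹ * (b * a) * b :=
          (hinvT _ hd).2 b (hKT hb)
        rw [h1, h2, mul_assoc _ b b]
        exact mul_mem ha2 (mul_mem hd hb2)
      inv_mem' := by
        rintro a ⟨ha, ha2⟩
        refine ⟨inv_mem ha, ?_⟩
        rw [← mul_inv_rev]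
        exact inv_mem ha2 }
  have hXmem : ∀ x, x ∈ X ↔ x ∈ K ∧ x * x ∈ V := fun x => Iff.rfl
  haveI hXn : X.Normal := ⟨fun x hx g => by
    refine ⟨hKn.conj_mem x hx.1 g, ?_⟩
    rw [conj_mul]
    exact hVn.conj_mem _ hx.2 g⟩
  have hVX : V ≤ X := fun v hv => ⟨hVK hv, mul_mem hv hv⟩
  have hVc : ∀ v ∈ V, ∀ x ∈ X, v * x = x * v := fun v hv x hx =>
    ((hinvT v hv).2 x (hKT hx.1)).symm
  have hfaith : ∀ p ∈ Pr, (∀ x ∈ X, x⁻¹ * (p * x * p⁻¹) ∈ V) → p = 1 := by
    intro p hp hfix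
    set m := orderOf p with hm
    have hpm : p ^ m = 1 := pow_orderOf_eq_one p
    have hmodd : Odd m := by
      rw [← Nat.not_even_iff_odd, even_iff_two_dvd]
      intro h
      have h1 := orderOf_dvd_natCard (⟨p, hPrP hp⟩ : P)
      rw [Subgroup.orderOf_mk] at h1
      exact hPodd (h.trans h1)
    have hpV : ∀ v ∈ V, p * v = v * p := fun v hv =>
      ((hmemC p).1 (hMC (hPM (hPrP hp))) v hv).symm
    have h2pow : ∀ t ∈ T, ∃ j, t ^ 2 ^ j = 1 := by
      intro t ht
      obtain ⟨j, hj⟩ := hTp ⟨t, ht⟩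
      exact ⟨j, by simpa [Subtype.ext_iff] using hj⟩
    have hX : ∀ x ∈ X, p * x * p⁻¹ = x := by
      intro x hx
      have hc := hfix x hx
      have h1 : p * x * p⁻¹ = x * (x⁻¹ * (p * x * p⁻¹)) := by group
      rw [fix_of_step (j := 1) hmodd hpm h1 (hpV _ hc) (by rw [pow_one]; exact (hV _).1 hc),
        mul_one] at h1
      exact h1
    have hKfix : ∀ j : ℕ, ∀ x ∈ K, x ^ 2 ^ j = 1 → p * x * p⁻¹ = x := by
      intro j
      induction j with
      | zero =>
        intro x _ hx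
        rw [pow_zero, pow_one] at hx
        simp [hx]
      | succ j ih =>
        intro x hx hxj
        have hx2 := ih (x * x) (mul_mem hx hx) (by rw [← pow_two, ← pow_mul, ← pow_succ']; exact hxj)
        set y := p * x * p⁻¹ with hy
        have hyK : y ∈ K := hKn.conj_mem x hx p
        have hyy : y * y = x * x := by rw [hy, conj_mul]; exact hx2
        set c := x⁻¹ * y with hc
        have hcK : c ∈ K := mul_mem (inv_mem hx) hyK
        -- `c ^ 2` is an involution
        set e := ⁅y, x⁻¹⁆ with he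
        have hecomm : ∀ z ∈ K, e * z = z * e := fun z hz =>
          (hKcomm y hyK x⁻¹ (inv_mem hx) z hz).2
        have h7 : y * x⁻¹ = e * (x⁻¹ * y) := by rw [he, commutatorElement_def]; group
        have hcc : c * c = e := by
          calc c * c = x⁻¹ * (y * x⁻¹) * y := by rw [hc]; group
            _ = (x⁻¹ * e) * (x⁻¹ * y * y) := by rw [h7]; group
            _ = e * (x⁻¹ * x⁻¹ * (y * y)) := by rw [← hecomm _ (inv_mem hx)]; group
            _ = e := by rw [hyy]; group
        have hee : e * e = 1 := by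
          have h8 : y * y * x⁻¹ = e * e * (x⁻¹ * (y * y)) := by
            calc y * y * x⁻¹ = y * (y * x⁻¹) := by group
              _ = (y * e) * (x⁻¹ * y) := by rw [h7]; group
              _ = e * ((y * x⁻¹) * y) := by rw [← hecomm y hyK]; group
              _ = _ := by rw [h7]; group
          rw [hKsq y hyK x⁻¹ (inv_mem hx)] at h8
          exact right_eq_mul.1 h8
        have hcX : c ∈ X := ⟨hcK, by rw [hV, hcc, pow_two, hee]⟩
        have hcp : p * c = c * p := mul_inv_eq_iff_eq_mul.1 (hX c hcX)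
        have h1 : p * x * p⁻¹ = x * c := by rw [hc, mul_inv_cancel_left]
        obtain ⟨i, hi⟩ := h2pow c (hKT hcK)
        rw [fix_of_step hmodd hpm h1 hcp hi, mul_one] at h1
        exact h1
    have hKfix' : ∀ x ∈ K, p * x * p⁻¹ = x := fun x hx => by
      obtain ⟨j, hj⟩ := h2pow x (hKT hx)
      exact hKfix j x hx hj
    have hTfix : ∀ t ∈ T, p * t * p⁻¹ = t := by
      intro t ht
      set c := t⁻¹ * (p * t * p⁻¹) with hc
      have hcT : c ∈ T := mul_mem (inv_mem ht) (hTn.conj_mem t ht p)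
      have hcK : c ∈ K := hKcent c hcT fun y hy => by
        have h1 : t * y * t⁻¹ ∈ K := hKn.conj_mem y hy t
        have h2 := hKfix' _ h1
        have h4 : p * (t * y * t⁻¹) * p⁻¹ = p * t * p⁻¹ * y * (p * t * p⁻¹)⁻¹ := by
          nth_rw 2 [← hKfix' y hy]
          group
        rw [h2] at h4
        calc y * c = t⁻¹ * (t * y * t⁻¹) * (p * t * p⁻¹) := by rw [hc]; group
          _ = t⁻¹ * (p * t * p⁻¹ * y * (p * t * p⁻¹)⁻¹) * (p * t * p⁻¹) := by rw [h4]
          _ = c * y := by rw [hc]; group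
      have h1 : p * t * p⁻¹ = t * c := by rw [hc, mul_inv_cancel_left]
      obtain ⟨i, hi⟩ := h2pow c hcT
      rw [fix_of_step hmodd hpm h1 (mul_inv_eq_iff_eq_mul.1 (hKfix' c hcK)) hi, mul_one] at h1
      exact h1
    have hpT : p ∈ T := hCT (mem_centralizer_iff.2 fun t ht =>
      (mul_inv_eq_iff_eq_mul.1 (hTfix t ht)).symm)
    exact disjoint_def.1 hTP hpT (hPrP hp)
  -- the eigen vectors and their kernels
  let Eig : Set G := {k | k ∈ Pr ∧ k ≠ 1 ∧ k ^ r = 1 ∧
    (∀ h ∈ E, h * k * h⁻¹ = k ∨ h * k * h⁻¹ = k⁻¹) ∧ ∃ g ∈ E, g * k * g⁻¹ = k⁻¹}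
  let BB : Set (Subgroup G) := (fun k => E ⊓ centralizer ({k} : Set G)) '' Eig
  haveI : Finite BB := Subtype.finite
  haveI := Fintype.ofFinite BB
  have hchoose : ∀ b : BB, ∃ k ∈ Eig, E ⊓ centralizer ({k} : Set G) = b := fun b => b.2
  choose kk hkk hkb using hchoose
  have hkne : ∀ k ∈ Eig, k⁻¹ ≠ k := by
    rintro k ⟨-, hk1, hkr, -, -⟩ h
    obtain ⟨t, ht⟩ := hr.odd_of_ne_two hr2
    have h1 : k * k = 1 := by nth_rw 1 [← h]; exact inv_mul_cancel k
    rw [ht, pow_succ, pow_mul, pow_two, h1, one_pow, one_mul] at hkr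
    exact hk1 hkr
  have hbmem : ∀ (b : BB) (h : G), h ∈ E → (h ∈ (b : Subgroup G) ↔ h * kk b * h⁻¹ = kk b) := by
    intro b h hh
    rw [← hkb b, mem_inf, mem_centralizer_singleton_iff, mul_inv_eq_iff_eq_mul]
    exact ⟨fun h1 => h1.2, fun h1 => ⟨hh, h1⟩⟩
  have hbinv : ∀ (b : BB) (h : G), h ∈ E → h ∉ (b : Subgroup G) →
      h * kk b * h⁻¹ = (kk b)⁻¹ := fun b h hh hn =>
    ((hkk b).2.2.2.1 h hh).resolve_left fun h1 => hn ((hbmem b h hh).2 h1)
  have hprod : ∀ (b : BB) (u w : G), u ∈ E → w ∈ E → u ∉ (b : Subgroup G) →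
      w ∉ (b : Subgroup G) → u * w ∈ (b : Subgroup G) := by
    intro b u w hu hw hu' hw'
    rw [hbmem b _ (mul_mem hu hw), show u * w * kk b * (u * w)⁻¹ = u * (w * kk b * w⁻¹) * u⁻¹ by group,
      hbinv b w hw hw', ← conj_inv, hbinv b u hu hu', inv_inv]
  have hbE : ∀ b : BB, (b : Subgroup G) ≤ E := fun b => hkb b ▸ inf_le_left
  have hbneE : ∀ b : BB, ∃ g ∈ E, g ∉ (b : Subgroup G) := by
    intro b
    obtain ⟨g, hg, hgk⟩ := (hkk b).2.2.2.2
    exact ⟨g, hg, fun h => hkne _ (hkk b) (((hbmem b g hg).1 h).symm.trans hgk).symm⟩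
  have hcross : ∀ b b' : BB, b ≠ b' → ∃ g ∈ E, g ∉ (b : Subgroup G) ∧ g ∈ (b' : Subgroup G) := by
    intro b b' hne
    by_contra! hcon
    have hle : (b' : Subgroup G) ≤ b := fun x hx => by
      by_contra h
      exact hcon x (hbE b' hx) h hx
    apply hne
    refine Subtype.ext (le_antisymm (fun x hx => ?_) hle)
    by_contra h
    obtain ⟨g0, hg0, hg0b⟩ := hbneE b
    have hg0b' : g0 ∉ (b' : Subgroup G) := fun h' => hg0b (hle h')
    have h1 := hle (hprod b' g0 x hg0 (hbE b hx) hg0b' h)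
    exact hg0b ((Subgroup.mul_mem_cancel_right _ hx).1 h1)
  choose g hgE hgb hgb' using hcross
  let gg : BB → BB → G := fun b b' => if h : b = b' then 1 else g b b' h
  have hcard := card_bound hV hVX hVc (fun x hx => hx.2)
    (fun x hx y hy => hdV x hx.1 y hy.1 hx.2) hr hr2
    (hPrP.trans (hPM.trans hMC)) hPrr hfaith (ι := BB) kk gg
    (fun b b' => by
      show gg b b' ∈ C
      by_cases h : b = b'
      · simp only [gg, dif_pos h]; exact one_mem _
      · simp only [gg, dif_neg h]; exact hEC (hgE b b' h))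
    (fun b => (hkk b).1) (fun b => (hkk b).2.1) (fun b => (hkk b).2.2.1)
    (fun b b' h => by
      simp only [gg, dif_neg h]
      exact hbinv b _ (hgE b b' h) (hgb b b' h))
    (fun b b' h => by
      simp only [gg, dif_neg h]
      exact (hbmem b' _ (hgE b b' h)).1 (hgb' b b' h))
  rw [hn] at hcard
  have hcn : Fintype.card BB ≤ n := (Nat.pow_le_pow_iff_right (by norm_num : 1 < 2)).1 hcard
  -- `H` permutes the kernels
  have hEigconj : ∀ h ∈ H, ∀ k ∈ Eig, h * k * h⁻¹ ∈ Eig := by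
    rintro h hh k ⟨hk, hk1, hkr, hkE, gk, hgk, hgk'⟩
    refine ⟨hNPr h (hHN hh) k hk, fun h0 => hk1 ?_, ?_, fun e he => ?_,
      h * gk * h⁻¹, hHE h hh gk hgk, ?_⟩
    · exact conj_eq_one_iff.1 h0
    · rw [conj_pow, hkr]; simp
    · have he' : h⁻¹ * e * h ∈ E := by simpa using hHE h⁻¹ (inv_mem hh) e he
      have hconj' : e * (h * k * h⁻¹) * e⁻¹ = h * (h⁻¹ * e * h * k * (h⁻¹ * e * h)⁻¹) * h⁻¹ := by
        group
      rcases hkE _ he' with h1 | h1
      · exact Or.inl (by rw [hconj', h1])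
      · exact Or.inr (by rw [hconj', h1, conj_inv])
    · calc h * gk * h⁻¹ * (h * k * h⁻¹) * (h * gk * h⁻¹)⁻¹
          = h * (gk * k * gk⁻¹) * h⁻¹ := by group
        _ = _ := by rw [hgk', conj_inv]
  have hBconj : ∀ h ∈ H, ∀ b : BB,
      (b : Subgroup G).map (MulAut.conj h).toMonoidHom ∈ BB := by
    intro h hh b
    refine ⟨h * kk b * h⁻¹, hEigconj h hh _ (hkk b), ?_⟩
    show E ⊓ centralizer ({h * kk b * h⁻¹} : Set G) = _
    ext x
    rw [mem_map_equiv, MulAut.conj_symm_apply, mem_inf, mem_centralizer_singleton_iff]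
    constructor
    · rintro ⟨hx, hxk⟩
      have hx' : h⁻¹ * x * h ∈ E := by simpa using hHE h⁻¹ (inv_mem hh) x hx
      rw [hbmem b _ hx']
      calc h⁻¹ * x * h * kk b * (h⁻¹ * x * h)⁻¹
          = h⁻¹ * (x * (h * kk b * h⁻¹)) * x⁻¹ * h := by group
        _ = h⁻¹ * ((h * kk b * h⁻¹) * x) * x⁻¹ * h := by rw [hxk]
        _ = kk b := by group
    · intro hx
      have hx' := hbE b hx
      have hxE : x ∈ E := by
        have := hHE h hh _ hx'
        simpa [mul_assoc] using this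
      refine ⟨hxE, ?_⟩
      have h1 := (hbmem b _ hx').1 hx
      calc x * (h * kk b * h⁻¹) = h * (h⁻¹ * x * h * kk b * (h⁻¹ * x * h)⁻¹) * (h⁻¹ * x * h) * h⁻¹ := by group
        _ = h * kk b * (h⁻¹ * x * h) * h⁻¹ := by rw [h1]
        _ = h * kk b * h⁻¹ * x := by group
  let act : H →* Equiv.Perm BB := MonoidHom.toHomPerm
    { toFun := fun h b => ⟨_, hBconj h h.2 b⟩
      map_one' := by
        funext b
        exact Subtype.ext (by
          show (b : Subgroup G).map (MulAut.conj ((1 : H) : G)).toMonoidHom = _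
          ext x
          simp
          rfl)
      map_mul' := fun a c => by
        funext b
        refine Subtype.ext ?_
        show (b : Subgroup G).map (MulAut.conj ((a * c : H) : G)).toMonoidHom =
          ((b : Subgroup G).map (MulAut.conj (c : G)).toMonoidHom).map
            (MulAut.conj (a : G)).toMonoidHom
        rw [Subgroup.map_map]
        congr 1
        ext x
        simp [mul_assoc] }
  set H1 := act.ker.map H.subtype with hH1
  have hH1H : H1 ≤ H := map_subtype_le _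
  have hH1b : ∀ a ∈ H1, ∀ b : BB, ∀ x, x ∈ (b : Subgroup G) → a * x * a⁻¹ ∈ (b : Subgroup G) := by
    rintro _ ⟨a, ha, rfl⟩ b x hx
    have h1 : act a b = b := by
      rw [MonoidHom.mem_ker.1 ha]; rfl
    have h2 : (b : Subgroup G).map (MulAut.conj (a : G)).toMonoidHom = b := congrArg Subtype.val h1
    rw [← h2]
    exact ⟨x, hx, rfl⟩
  -- fixed involution
  obtain ⟨g1, hg1, hg1D⟩ := SetLike.not_le_iff_exists.1 hEne
  have hcoset : ∀ a ∈ H1, g1⁻¹ * (a * g1 * a⁻¹) ∈ D := by
    intro a ha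
    have hwE : g1⁻¹ * (a * g1 * a⁻¹) ∈ E := mul_mem (inv_mem hg1) (hHE a (hH1H ha) g1 hg1)
    by_contra hwD
    obtain ⟨k, hk, hk1, hkr, hkg, hkall⟩ := exists_eigen hr hr2 hPrr hEp
      (fun h hh => hNPr h (hEN hh)) hactsq hactab hwE (hnontriv _ hwE hwD)
    let b : BB := ⟨_, k, ⟨hk, hk1, hkr, hkall, _, hwE, hkg⟩, rfl⟩
    have hwb : g1⁻¹ * (a * g1 * a⁻¹) ∈ (b : Subgroup G) := by
      by_cases hgb1 : g1 ∈ (b : Subgroup G)
      · exact mul_mem (inv_mem hgb1) (hH1b a ha b g1 hgb1)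
      · refine hprod b _ _ (inv_mem hg1) (hHE a (hH1H ha) g1 hg1)
          (fun h => hgb1 (inv_mem_iff.1 h)) fun h => hgb1 ?_
        have := hH1b a⁻¹ (inv_mem ha) b _ h
        simpa [mul_assoc] using this
    have h1 : g1⁻¹ * (a * g1 * a⁻¹) ∈ centralizer ({k} : Set G) := hwb.2
    rw [mem_centralizer_singleton_iff] at h1
    exact hkne k ⟨hk, hk1, hkr, hkall, _, hwE, hkg⟩
      (hkg.symm.trans (mul_inv_eq_iff_eq_mul.2 h1))
  have hcopH : (Nat.card H1).Coprime (Nat.card D) := by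
    obtain ⟨a, ha⟩ := IsPGroup.iff_card.1 (hTp.to_le (inf_le_left : D ≤ T))
    rw [ha]
    refine (Nat.Coprime.pow_left a ((Nat.prime_two.coprime_iff_not_dvd).2 fun hd => ?_)).symm
    exact hHodd (hd.trans (card_dvd_of_le hH1H))
  obtain ⟨c, hcC, hcD⟩ := CfsgLib.Coprime.exists_fixed_mem_coset
    (hH1H.trans (hconjH D hHD)) hcopH (Or.inl inferInstance) hcoset
  have hcE : c ∈ E := by
    have := mul_mem hg1 (hDE hcD)
    rwa [mul_inv_cancel_left] at this
  have hcne : c ≠ 1 := by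
    rintro rfl
    rw [mul_one] at hcD
    exact hg1D (inv_mem_iff.1 hcD)
  obtain ⟨v, hv, hv1, hvC⟩ : ∃ v ∈ V, v ≠ 1 ∧ ∀ a ∈ H1, a * v = v * a := by
    obtain ⟨j, hj⟩ := hEp ⟨c, hcE⟩
    have hj' : c ^ 2 ^ j = 1 := by simpa [Subtype.ext_iff] using hj
    obtain ⟨i, -, hi⟩ := (Nat.dvd_prime_pow Nat.prime_two).1 (orderOf_dvd_of_pow_eq_one hj')
    have hi0 : i ≠ 0 := fun h => hcne (orderOf_eq_one_iff.1 (by rw [hi, h, pow_zero]))
    refine ⟨c ^ 2 ^ (i - 1), ?_, fun h => ?_, fun a ha => ?_⟩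
    · rw [hV, ← pow_mul, ← pow_succ, Nat.sub_add_cancel (by omega), ← hi, pow_orderOf_eq_one]
    · have h1 := orderOf_dvd_of_pow_eq_one h
      rw [hi] at h1
      have := (Nat.pow_dvd_pow_iff_le_right (by norm_num : 1 < 2)).1 h1
      omega
    · exact (Commute.pow_right (mem_centralizer_iff.1 hcC a ha) _).eq
  -- counting
  letI : MulAction H {w : G // w ∈ V ∧ w ≠ 1} :=
    { smul := fun h w => ⟨(h : G) * w * (h : G)⁻¹, hVn.conj_mem _ w.2.1 _,
        fun h0 => w.2.2 (conj_eq_one_iff.1 h0)⟩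
      one_smul := fun w => Subtype.ext (by show ((1 : H) : G) * w * ((1 : H) : G)⁻¹ = w; simp)
      mul_smul := fun a c w => Subtype.ext (by
        show ((a * c : H) : G) * w * ((a * c : H) : G)⁻¹ =
          (a : G) * ((c : G) * w * (c : G)⁻¹) * (a : G)⁻¹
        simp [mul_assoc]) }
  set v' : {w : G // w ∈ V ∧ w ≠ 1} := ⟨v, hv, hv1⟩ with hv'
  have horb : MulAction.orbit H v' = Set.univ := by
    refine Set.eq_univ_of_forall fun w => ?_
    obtain ⟨h, hh, hhw⟩ := htrans v hv hv1 w w.2.1 w.2.2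
    refine ⟨⟨h, hh⟩, ?_⟩
    apply Subtype.ext
    show h * v * h⁻¹ = _
    exact hhw
  have hstab : act.ker ≤ MulAction.stabilizer H v' := by
    intro a ha
    refine Subtype.ext (?_ : (a : G) * v * (a : G)⁻¹ = v)
    exact mul_inv_eq_iff_eq_mul.2 (hvC a ⟨a, ha, rfl⟩)
  have h1 : (MulAction.stabilizer H v').index = 2 ^ n - 1 := by
    have hkey := MulAction.index_stabilizer H v'
    rw [horb, Set.ncard_univ] at hkey
    rw [hkey, ← hn]
    have hset : {w : G | w ∈ V ∧ w ≠ 1} = (V : Set G) \ {1} := by ext w; simp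
    show Nat.card {w : G | w ∈ V ∧ w ≠ 1} = _
    rw [hset, Nat.card_coe_set_eq, Set.ncard_sdiff_singleton_of_mem (one_mem V),
      ← Nat.card_coe_set_eq]
    rfl
  have h2 : act.ker.index ∣ Nat.factorial (Fintype.card BB) := by
    rw [index_ker, ← Fintype.card_perm, ← Nat.card_eq_fintype_card]
    exact card_subgroup_dvd_card _
  exact not_pow_two_sub_one_dvd_factorial hn2
    (((h1 ▸ index_dvd_of_le hstab).trans h2).trans (Nat.factorial_dvd_factorial hcn))

end Main

end CfsgLib.OneClassInvolutions
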