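import Cfsg.Agent.OneClassInvolutions.TwoLength
import Cfsg.Agent.OddOrder.BG3.PLengthOne

/-!
# Solvable groups with one class of involutions: reduction and the Sylow subgroup
-/

set_option autoImplicit false
set_option linter.style.haveILetI false

namespace CfsgLib.OneClassInvolutions

open Cfsg Subgroup

/-- A finite abelian `2`-group whose automorphisms are transitive on involutions is homocyclic. -/
theorem homocyclic_of_transitive {A : Type*} [CommGroup A] [Finite A] [Nontrivial A]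
    (hA : IsPGroup 2 A)
    (htrans : ∀ x y : A, x ≠ 1 → x ^ 2 = 1 → y ≠ 1 → y ^ 2 = 1 → ∃ φ : MulAut A, φ x = y) :
    ∃ m r : ℕ, Nonempty (A ≃* (Fin r → Multiplicative (ZMod (2 ^ m)))) := by
  classical
  obtain ⟨ι, hι, n, hn1, ⟨e⟩⟩ := CommGroup.equiv_prod_multiplicative_zmod_of_finite A
  haveI := hι
  haveI hnz : ∀ i, NeZero (n i) := fun i => ⟨by have := hn1 i; omega⟩
  obtain ⟨a, ha⟩ := IsPGroup.iff_card.1 hA
  have hpow : ∀ i, ∃ b, n i = 2 ^ (b + 1) := by
    intro i
    have hd : n i ∣ 2 ^ a := by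
      rw [← ha, Nat.card_congr e.toEquiv, Nat.card_pi]
      exact dvd_trans (by rw [Nat.card_congr Multiplicative.toAdd, Nat.card_zmod])
        (Finset.dvd_prod_of_mem _ (Finset.mem_univ i))
    obtain ⟨b, -, hb⟩ := (Nat.dvd_prime_pow Nat.prime_two).1 hd
    rcases b with _ | b
    · have := hn1 i
      rw [hb, pow_zero] at this
      omega
    · exact ⟨b, hb⟩
  choose b hb using hpow
  let u : ι → ∀ i, Multiplicative (ZMod (n i)) := fun i =>
    Pi.mulSingle i (Multiplicative.ofAdd ((2 ^ b i : ℕ) : ZMod (n i)))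
  have hu2 : ∀ i, u i ^ 2 = 1 := by
    intro i
    rw [← Pi.mulSingle_pow, Pi.mulSingle_eq_one_iff, ← ofAdd_nsmul, ofAdd_eq_one, nsmul_eq_mul,
      ← Nat.cast_mul, ZMod.natCast_eq_zero_iff, hb i, pow_succ']
  have hu1 : ∀ i, Multiplicative.ofAdd ((2 ^ b i : ℕ) : ZMod (n i)) ≠ 1 := by
    intro i h
    rw [ofAdd_eq_one, ZMod.natCast_eq_zero_iff, hb i] at h
    have := (Nat.pow_dvd_pow_iff_le_right (by norm_num : 1 < 2)).1 h
    omega
  have hu1' : ∀ i, u i ≠ 1 := fun i h => hu1 i (Pi.mulSingle_eq_one_iff.1 h)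
  have hsame : ∀ i j, ¬ b i < b j := by
    intro i j hlt
    obtain ⟨φ, hφ⟩ := htrans (e.symm (u j)) (e.symm (u i))
      (fun h => hu1' j (e.symm.injective (h.trans (map_one e.symm).symm)))
      (by rw [← map_pow, hu2, map_one])
      (fun h => hu1' i (e.symm.injective (h.trans (map_one e.symm).symm)))
      (by rw [← map_pow, hu2, map_one])
    set w := e (φ (e.symm (Pi.mulSingle j (Multiplicative.ofAdd (1 : ZMod (n j)))))) with hw
    have h1 : u i = w ^ 2 ^ b j := by
      rw [hw, ← map_pow, ← map_pow, ← map_pow, ← Pi.mulSingle_pow]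
      have h2 : (Multiplicative.ofAdd (1 : ZMod (n j))) ^ 2 ^ b j =
          Multiplicative.ofAdd ((2 ^ b j : ℕ) : ZMod (n j)) := by
        rw [← ofAdd_nsmul, nsmul_eq_mul, mul_one]
      rw [h2]
      exact (e.apply_eq_iff_symm_apply.2 hφ).symm
    have h3 := congrFun h1 i
    rw [Pi.pow_apply] at h3
    simp only [u, Pi.mulSingle_eq_same] at h3
    refine hu1 i (h3.trans ?_)
    rw [← ofAdd_toAdd (w i), ← ofAdd_nsmul, ofAdd_eq_one, nsmul_eq_mul]
    have : ((2 ^ b j : ℕ) : ZMod (n i)) = 0 := by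
      rw [ZMod.natCast_eq_zero_iff, hb i]
      exact pow_dvd_pow 2 hlt
    rw [this, zero_mul]
  have hne : Nonempty ι := by
    by_contra h
    rw [not_nonempty_iff] at h
    obtain ⟨x, y, hxy⟩ := exists_pair_ne A
    exact hxy (e.injective (Subsingleton.elim _ _))
  obtain ⟨i0⟩ := hne
  have hn : n = fun _ => 2 ^ (b i0 + 1) := by
    funext i
    rw [hb i, show b i = b i0 by have := hsame i i0; have := hsame i0 i; omega]
  subst hn
  exact ⟨b i0 + 1, Fintype.card ι,
    ⟨e.trans (MulEquiv.arrowCongr (Fintype.equivFin ι) (MulEquiv.refl _))⟩⟩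

variable {G : Type*} [Group G] [Finite G]

/-- Two-length one, and the normalizer of a Sylow `2`-subgroup is transitive on its involutions. -/
theorem pLength_and_transitive (hG : Group.IsSolvable G) (S : Sylow 2 G)
    (htwo : ∃ x y : G, x ∈ (S : Subgroup G) ∧ y ∈ (S : Subgroup G) ∧ x ≠ y ∧ x ≠ 1 ∧ x ^ 2 = 1 ∧
      y ≠ 1 ∧ y ^ 2 = 1)
    (hconj : ∀ x y : G, x ≠ 1 → x ^ 2 = 1 → y ≠ 1 → y ^ 2 = 1 → IsConj x y) :
    PLengthLE 2 1 G ∧ ∀ x ∈ (S : Subgroup G), ∀ y ∈ (S : Subgroup G), x ≠ 1 → x ^ 2 = 1 → y ≠ 1 →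
      y ^ 2 = 1 → ∃ g ∈ normalizer ((S : Subgroup G) : Set G), g * x * g⁻¹ = y := by
  haveI := hG
  haveI : Fact (Nat.Prime 2) := ⟨Nat.prime_two⟩
  set O := pPrimeCore 2 G with hO
  haveI : O.Normal := pPrimeCore_normal 2 G
  have hOodd : Odd (Nat.card O) := by
    rw [← Nat.not_even_iff_odd, even_iff_two_dvd]
    exact CfsgLib.PLocal.not_dvd_iff_coprime.1 (CfsgLib.PLocal.coprime_card_pPrimeCore 2 G)
  have hdisj : Disjoint (S : Subgroup G) O := disjoint_iff.2
    (CfsgLib.PLocal.disjoint_of_isPGroup_of_coprime S.isPGroup'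
      (CfsgLib.PLocal.coprime_card_pPrimeCore 2 G))
  set q := QuotientGroup.mk' O with hq
  have hlift : ∀ x' : G ⧸ O, x' ≠ 1 → x' ^ 2 = 1 → ∃ x : G, q x = x' ∧ x ≠ 1 ∧ x ^ 2 = 1 := by
    intro x' hx1 hx2
    obtain ⟨x, rfl⟩ := QuotientGroup.mk'_surjective O x'
    have hxO : x ^ 2 ∈ O := by
      rwa [← QuotientGroup.eq_one_iff, ← QuotientGroup.mk'_apply, map_pow]
    have h1 : (x ^ Nat.card O) ^ 2 = 1 := by
      rw [← pow_mul, mul_comm, pow_mul]
      exact congrArg Subtype.val (pow_card_eq_one' (x := (⟨x ^ 2, hxO⟩ : O)))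
    obtain ⟨t, ht⟩ := hOodd
    have h2 : q (x ^ Nat.card O) = q x := by
      rw [map_pow, ht, pow_succ, pow_mul, hx2, one_pow, one_mul]
    exact ⟨_, h2, fun h => hx1 (by rw [← h2, h, map_one]), h1⟩
  have hL : PLengthLE 2 1 (G ⧸ O) ∧
      ((S.mapSurjective (QuotientGroup.mk'_surjective O) : Sylow 2 (G ⧸ O)) : Subgroup (G ⧸ O)) =
        pCore 2 (G ⧸ O) := by
    set T := pCore 2 (G ⧸ O) with hT
    set S' : Sylow 2 (G ⧸ O) := S.mapSurjective (QuotientGroup.mk'_surjective O) with hS'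
    have hidx : ¬ 2 ∣ T.index := by
      refine not_dvd_index_pCore_two inferInstance
        (CfsgLib.PLocal.pPrimeCore_quotient_pPrimeCore_eq_bot 2 G) ?_ ?_
      · intro x' y' hx1 hx2 hy1 hy2
        obtain ⟨x, rfl, hx, hx'⟩ := hlift x' hx1 hx2
        obtain ⟨y, rfl, hy, hy'⟩ := hlift y' hy1 hy2
        exact q.map_isConj (hconj x y hx hx' hy hy')
      · obtain ⟨x, y, hx, hy, hxy, hx1, hx2, hy1, hy2⟩ := htwo
        have hker : ∀ z ∈ (S : Subgroup G), q z = 1 → z = 1 := fun z hz h =>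
          disjoint_def.1 hdisj hz ((QuotientGroup.eq_one_iff z).1 h)
        refine ⟨q x, q y, fun h => hxy ?_, fun h => hx1 (hker x hx h),
          by rw [← map_pow, hx2, map_one], fun h => hy1 (hker y hy h),
          by rw [← map_pow, hy2, map_one]⟩
        have := hker _ (mul_mem (inv_mem hx) hy) (by rw [map_mul, map_inv, h, inv_mul_cancel])
        exact inv_mul_eq_one.1 this
    have hTS : T ≤ S' := CfsgLib.PLocal.pCore_le_sylow S'
    have heq : (S' : Subgroup (G ⧸ O)) = T := by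
      refine le_antisymm ?_ hTS
      rw [← relIndex_eq_one]
      obtain ⟨k, hk⟩ := IsPGroup.iff_card.1 S'.isPGroup'
      obtain ⟨j, -, hj⟩ := (Nat.dvd_prime_pow Nat.prime_two).1
        (hk ▸ relIndex_dvd_card T (S' : Subgroup (G ⧸ O)))
      rcases Nat.eq_zero_or_pos j with h | h
      · rw [hj, h, pow_zero]
      · exfalso
        exact hidx ((dvd_pow_self 2 h.ne').trans (hj ▸ relIndex_dvd_index_of_le hTS))
    exact ⟨CfsgLib.OddOrder.pLengthLE_one_of_sylow_le_pCore S' heq.le, heq⟩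
  constructor
  · have h0 : PLengthLE 2 0 O :=
      CfsgLib.PLength.pLengthLE_zero_iff.2 (CfsgLib.PLocal.coprime_card_pPrimeCore 2 G)
    simpa using CfsgLib.PLength.pLengthLE_extension O h0 hL.1
  · intro x hx y hy hx1 hx2 hy1 hy2
    obtain ⟨g, hg⟩ := isConj_iff.1 (hconj x y hx1 hx2 hy1 hy2)
    set L := ((S : Subgroup G).map q).comap q with hLdef
    haveI : ((S : Subgroup G).map q).Normal := by
      have h := hL.2
      rw [Sylow.coe_mapSurjective] at h
      rw [h]
      exact pCore_normal 2 (G ⧸ O)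
    haveI : L.Normal := by rw [hLdef]; infer_instance
    have hLeq : L = (S : Subgroup G) ⊔ O := by
      rw [hLdef, comap_map_eq, hq, QuotientGroup.ker_mk']
    have hfr := Sylow.normalizer_sup_eq_top' S (hLeq ▸ le_sup_left : (S : Subgroup G) ≤ L)
    have htop : O ⊔ normalizer ((S : Subgroup G) : Set G) = ⊤ := by
      rw [eq_top_iff, ← hfr, hLeq]
      exact sup_le le_sup_right (sup_le (le_normalizer.trans le_sup_right) le_sup_left)
    obtain ⟨o, ho, n, hn, rfl⟩ :=
      (mem_sup_of_normal_left (s := O) (t := normalizer ((S : Subgroup G) : Set G))).1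
        (htop ▸ mem_top g)
    refine ⟨n, hn, ?_⟩
    set z := n * x * n⁻¹ with hz
    have hzS : z ∈ (S : Subgroup G) := (mem_normalizer_iff.1 hn x).1 hx
    have h1 : y * z⁻¹ ∈ O := by
      rw [← hg, show o * n * x * (o * n)⁻¹ * z⁻¹ = o * (z * o⁻¹ * z⁻¹) by rw [hz]; group]
      exact mul_mem ho ((inferInstance : O.Normal).conj_mem _ (inv_mem ho) z)
    exact (mul_inv_eq_one.1 (disjoint_def.1 hdisj (mul_mem hy (inv_mem hzS)) h1)).symm

end CfsgLib.OneClassInvolutions
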