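import Mathlib
import Cfsg.Agent.OddOrder.BG4.Basic

/-!
# Anisotropic quadratic maps and coprime automorphisms

`W`, `V` are elementary abelian `2`-groups, `Q : W → V` is a quadratic map which vanishes only
at `1`, and `Γ` acts on `W` leaving `Q` invariant.  If commuting automorphisms `k`, `z` of odd
prime order `r` are such that some element inverts `k` and centralizes `z`, then `k` centralizes
`[W, z]`; so a family of pairwise "independent" dihedral actions has at most `log₂ |V|` members.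
-/

set_option autoImplicit false

namespace CfsgLib.OneClassInvolutions

open Finset
open scoped commutatorElement

variable {W V Γ : Type*} [CommGroup W] [CommGroup V] [Group Γ]

/-- A quadratic map vanishing only at the identity, invariant under an action. -/
structure AnisotropicSystem (W V Γ : Type*) [CommGroup W] [CommGroup V] [Group Γ] where
  /-- the action -/
  ρ : Γ →* MulAut W
  /-- the quadratic map -/
  Q : W → V
  sq_W : ∀ w : W, w * w = 1
  sq_V : ∀ v : V, v * v = 1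
  aniso : ∀ w : W, Q w = 1 → w = 1
  bilin : ∀ a b c : W, Q (a * b * c) * Q (a * b) * Q c =
    (Q (a * c) * Q a * Q c) * (Q (b * c) * Q b * Q c)
  invariant : ∀ (γ : Γ) (w : W), Q (ρ γ w) = Q w

namespace AnisotropicSystem

variable (S : AnisotropicSystem W V Γ)

/-- The polar form. -/
def B (a b : W) : V := S.Q (a * b) * S.Q a * S.Q b

theorem inv_eq_self (S : AnisotropicSystem W V Γ) (w : W) : w⁻¹ = w := inv_eq_of_mul_eq_one_right (S.sq_W w)

theorem B_comm (a b : W) : S.B a b = S.B b a := by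
  rw [B, B, mul_comm a b, mul_assoc, mul_assoc, mul_comm (S.Q a)]

theorem B_mul_left (a b c : W) : S.B (a * b) c = S.B a c * S.B b c := S.bilin a b c

theorem B_mul_right (a b c : W) : S.B a (b * c) = S.B a b * S.B a c := by
  rw [S.B_comm a, S.B_mul_left, S.B_comm b, S.B_comm c]

theorem B_one_left (a : W) : S.B 1 a = 1 := by
  have h := S.B_mul_left 1 1 a
  rw [one_mul] at h
  exact left_eq_mul.1 h

theorem B_invariant (γ : Γ) (a b : W) : S.B (S.ρ γ a) (S.ρ γ b) = S.B a b := by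
  simp only [B, ← map_mul, S.invariant]

theorem Q_mul (a b : W) : S.Q (a * b) = S.Q a * S.Q b * S.B a b := by
  rw [B]
  calc S.Q (a * b) = S.Q (a * b) * (S.Q a * S.Q a) * (S.Q b * S.Q b) := by
        rw [S.sq_V, S.sq_V, mul_one, mul_one]
    _ = _ := by ac_rfl

theorem Q_one : S.Q 1 = 1 := by
  have h := S.B_one_left 1
  rw [B, one_mul, mul_assoc, S.sq_V, mul_one] at h
  exact h

theorem B_self (a : W) : S.B a a = 1 := by
  rw [B, S.sq_W, S.Q_one, one_mul, S.sq_V]

theorem ρ_mul_apply (a b : Γ) (w : W) : S.ρ (a * b) w = S.ρ a (S.ρ b w) := by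
  rw [map_mul, MulAut.mul_apply]

/-- `[W, a]`. -/
def moved (a : Γ) : Subgroup W where
  carrier := {u | ∃ w, u = S.ρ a w / w}
  one_mem' := ⟨1, by simp⟩
  mul_mem' := by
    rintro _ _ ⟨w, rfl⟩ ⟨w', rfl⟩
    exact ⟨w * w', by rw [map_mul, mul_div_mul_comm]⟩
  inv_mem' := by
    rintro _ ⟨w, rfl⟩
    exact ⟨w⁻¹, by rw [map_inv, inv_div, inv_div_inv]⟩

theorem ρ_mem_moved {a g : Γ} (h : g * a = a * g) {u : W} (hu : u ∈ S.moved a) :
    S.ρ g u ∈ S.moved a := by
  obtain ⟨w, rfl⟩ := hu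
  refine ⟨S.ρ g w, ?_⟩
  rw [map_div, ← ρ_mul_apply, ← ρ_mul_apply, h]

theorem B_fixed_moved {a : Γ} {f u : W} (hf : S.ρ a f = f) (hu : u ∈ S.moved a) :
    S.B f u = 1 := by
  obtain ⟨w, rfl⟩ := hu
  rw [div_eq_mul_inv, S.inv_eq_self, S.B_mul_right]
  nth_rw 1 [← hf]
  rw [S.B_invariant, S.sq_V]

theorem pow_apply_fixed {a : Γ} {w : W} (h : S.ρ a w = w) (n : ℕ) : S.ρ (a ^ n) w = w := by
  induction n with
  | zero => simp
  | succ n ih => rw [pow_succ, ρ_mul_apply, h, ih]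

/-- An element of odd order fixes nothing of `[W, a]`. -/
theorem eq_one_of_fixed_moved {a : Γ} {n : ℕ} (hn : Odd n) (han : a ^ n = 1) {u : W}
    (hu : u ∈ S.moved a) (hfix : S.ρ a u = u) : u = 1 := by
  obtain ⟨w, hw⟩ := hu
  have hstep : ∀ j, S.ρ (a ^ j) w = u ^ j * w := by
    intro j
    induction j with
    | zero => simp
    | succ j ih =>
      rw [pow_succ', ρ_mul_apply, ih, map_mul, map_pow, hfix, pow_succ, mul_assoc]
      congr 1
      rw [hw, div_mul_cancel]
  have h := hstep n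
  rw [han, map_one, MulAut.one_apply] at h
  obtain ⟨k, rfl⟩ := hn
  rw [pow_succ, pow_mul, pow_two, S.sq_W, one_pow, one_mul] at h
  exact right_eq_mul.1 h

theorem norm_fixed {a : Γ} {r : ℕ} (hr : a ^ r = 1) (u : W) :
    S.ρ a (∏ j ∈ range r, S.ρ (a ^ j) u) = ∏ j ∈ range r, S.ρ (a ^ j) u := by
  rw [map_prod]
  simp only [← ρ_mul_apply, ← pow_succ']
  have h1 := prod_range_succ (fun j => S.ρ (a ^ j) u) r
  have h2 := prod_range_succ' (fun j => S.ρ (a ^ j) u) r
  simp only [hr, pow_zero] at h1 h2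
  exact mul_right_cancel (h2.symm.trans h1)

theorem norm_eq_one_of_moved {a : Γ} {r : ℕ} (hr : a ^ r = 1) {u : W} (hu : u ∈ S.moved a) :
    ∏ j ∈ range r, S.ρ (a ^ j) u = 1 := by
  obtain ⟨w, rfl⟩ := hu
  simp only [map_div, ← ρ_mul_apply, ← pow_succ]
  rw [prod_range_div (fun j => S.ρ (a ^ j) w), hr, pow_zero, div_self']

/-- If `g` inverts `k` and centralizes `z`, then `k` centralizes `[W, z]`. -/
theorem fixes_moved [Finite W] {r : ℕ} (hr : r.Prime) (hr2 : r ≠ 2) {k z g : Γ} (hk : k ^ r = 1)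
    (hz : z ^ r = 1) (hkz : k * z = z * k) (hgz : g * z = z * g) (hgk : g * k * g⁻¹ = k⁻¹)
    {u : W} (hu : u ∈ S.moved z) : S.ρ k u = u := by
  have hodd : Odd r := hr.odd_of_ne_two hr2
  haveI : Fact r.Prime := ⟨hr⟩
  by_contra hne
  set u1 := S.ρ k u / u with hu1
  have hu1z : u1 ∈ S.moved z := div_mem (S.ρ_mem_moved hkz hu) hu
  have hu1k : u1 ∈ S.moved k := ⟨u, rfl⟩
  have hu1ne : u1 ≠ 1 := fun h => hne (div_eq_one.1 h)
  have hc : Commute k z := hkz
  -- the product of all norms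
  have hprod : ∏ i ∈ range r, ∏ j ∈ range r, S.ρ ((k ^ i * z) ^ j) u1 = u1 := by
    rw [prod_comm]
    obtain ⟨r', hr'⟩ : ∃ r', r = r' + 1 := ⟨r - 1, by have := hr.pos; omega⟩
    have h0 : ∏ i ∈ range r, S.ρ ((k ^ i * z) ^ 0) u1 = u1 := by
      obtain ⟨t, ht⟩ := hodd
      simp [ht, pow_succ, pow_mul, pow_two, S.sq_W]
    have hj : ∀ j, 0 < j → j < r → ∏ i ∈ range r, S.ρ ((k ^ i * z) ^ j) u1 = 1 := by
      intro j hj0 hjr
      have h1 : ∀ i, S.ρ ((k ^ i * z) ^ j) u1 = S.ρ ((k ^ j) ^ i) (S.ρ (z ^ j) u1) := by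
        intro i
        rw [(hc.pow_left i).mul_pow, ρ_mul_apply, ← pow_mul, ← pow_mul, mul_comm i j]
      simp only [h1]
      refine S.norm_eq_one_of_moved (by rw [← pow_mul, mul_comm, pow_mul, hk, one_pow]) ?_
      -- `[W, k] = [W, k ^ j]`
      obtain ⟨m, hm⟩ : ∃ m, (k ^ j) ^ m = k := by
        refine ⟨((j : ZMod r)⁻¹).val, ?_⟩
        rw [← pow_mul]
        have hj' : (j : ZMod r) ≠ 0 := by
          rw [Ne, ZMod.natCast_eq_zero_iff]
          exact fun h => absurd (Nat.le_of_dvd hj0 h) (by omega)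
        have : ((j * ((j : ZMod r)⁻¹).val : ℕ) : ZMod r) = ((1 : ℕ) : ZMod r) := by
          rw [Nat.cast_mul, ZMod.natCast_val, ZMod.cast_id', id, mul_inv_cancel₀ hj', Nat.cast_one]
        rw [ZMod.natCast_eq_natCast_iff'] at this
        rw [← Nat.mod_add_div (j * _) r, this, Nat.one_mod_eq_one.2 hr.ne_one, pow_add, pow_mul,
          hk, one_pow, mul_one, pow_one]
      have hle : S.moved k ≤ S.moved (k ^ j) := by
        rintro _ ⟨w, rfl⟩
        have : ∀ n, S.ρ ((k ^ j) ^ n) w / w ∈ S.moved (k ^ j) := by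
          intro n
          induction n with
          | zero => simp
          | succ n ih =>
            have h : S.ρ ((k ^ j) ^ (n + 1)) w / w =
                (S.ρ (k ^ j) (S.ρ ((k ^ j) ^ n) w) / S.ρ ((k ^ j) ^ n) w) *
                  (S.ρ ((k ^ j) ^ n) w / w) := by
              rw [pow_succ', ρ_mul_apply, div_mul_div_cancel]
            rw [h]
            exact mul_mem ⟨_, rfl⟩ ih
        have := this m
        rwa [hm] at this
      exact hle (S.ρ_mem_moved (hc.pow_right j).symm.eq hu1k)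
    subst hr'
    rw [prod_range_succ' _ r', h0]
    rw [prod_eq_one fun j hj' => hj (j + 1) (by omega) (by
      rw [Finset.mem_range] at hj'; omega), one_mul]
  obtain ⟨i, hi, hiN⟩ : ∃ i ∈ range r, ∏ j ∈ range r, S.ρ ((k ^ i * z) ^ j) u1 ≠ 1 := by
    by_contra! h
    exact hu1ne (hprod ▸ prod_eq_one h)
  set a := k ^ i * z with ha
  set w := ∏ j ∈ range r, S.ρ (a ^ j) u1 with hw
  have har : a ^ r = 1 := by
    rw [ha, (hc.pow_left i).mul_pow, ← pow_mul, mul_comm, pow_mul, hk, hz, one_pow, one_mul]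
  have haw : S.ρ a w = w := S.norm_fixed har u1
  have haz : a * z = z * a := ((hc.pow_left i).mul_left (Commute.refl z)).eq
  have hwz : w ∈ S.moved z := prod_mem fun j _ =>
    S.ρ_mem_moved (Commute.pow_left haz j).eq hu1z
  have hi0 : i ≠ 0 := by
    rintro rfl
    refine hiN (S.eq_one_of_fixed_moved hodd hz hwz ?_)
    simpa [ha] using haw
  -- the conjugate fixed space
  set a' := k⁻¹ ^ i * z with ha'
  have hga : g * a = a' * g := by
    rw [ha, ha', mul_assoc (k⁻¹ ^ i), ← hgz, ← mul_assoc (k⁻¹ ^ i)]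
    have : g * k ^ i = k⁻¹ ^ i * g := by
      rw [← hgk, conj_pow, inv_mul_cancel_right]
    rw [← mul_assoc, this]
  set y := S.ρ g w with hy
  have hay : S.ρ a' y = y := by rw [hy, ← ρ_mul_apply, ← hga, ρ_mul_apply, haw]
  have hyz : y ∈ S.moved z := S.ρ_mem_moved hgz hwz
  -- the subgroup on which `a` acts freely
  let R : Subgroup W :=
    { carrier := {x | x ∈ S.moved z ∧ S.ρ a' x = x}
      one_mem' := ⟨one_mem _, map_one _⟩
      mul_mem' := fun hx hx' => ⟨mul_mem hx.1 hx'.1, by rw [map_mul, hx.2, hx'.2]⟩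
      inv_mem' := fun hx => ⟨inv_mem hx.1, by rw [map_inv, hx.2]⟩ }
  have hk' : Commute k⁻¹ k := (Commute.refl k).inv_left
  have haa' : a' * a = a * a' := by
    rw [ha, ha']
    exact (((hk'.pow_pow i i).mul_right (hc.inv_left.pow_left i)).mul_left
      ((hc.symm.pow_right i).mul_right (Commute.refl z))).eq
  have hfree : ∀ x ∈ R, S.ρ a x = x → x = 1 := by
    rintro x ⟨hxz, hxa⟩ hxa'
    have hk2 : S.ρ (k ^ (2 * i)) x = x := by
      have h2 : k ^ (2 * i) * a' = a := by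
        rw [ha', ha, two_mul, pow_add, ← mul_assoc, mul_assoc (k ^ i), inv_pow, mul_inv_cancel,
          mul_one]
      calc S.ρ (k ^ (2 * i)) x = S.ρ (k ^ (2 * i)) (S.ρ a' x) := by rw [hxa]
        _ = S.ρ a x := by rw [← ρ_mul_apply, h2]
        _ = x := hxa'
    obtain ⟨m, hm⟩ : ∃ m, (k ^ (2 * i)) ^ m = k := by
      refine ⟨(((2 * i : ℕ) : ZMod r)⁻¹).val, ?_⟩
      rw [← pow_mul]
      have hj' : ((2 * i : ℕ) : ZMod r) ≠ 0 := by
        rw [Ne, ZMod.natCast_eq_zero_iff, hr.dvd_mul]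
        rintro (h | h)
        · exact hr2 ((Nat.prime_dvd_prime_iff_eq hr Nat.prime_two).1 h)
        · exact absurd (Nat.le_of_dvd (by omega) h) (by
            rw [Finset.mem_range] at hi; omega)
      have : ((2 * i * (((2 * i : ℕ) : ZMod r)⁻¹).val : ℕ) : ZMod r) = ((1 : ℕ) : ZMod r) := by
        rw [Nat.cast_mul, ZMod.natCast_val, ZMod.cast_id', id, mul_inv_cancel₀ hj', Nat.cast_one]
      rw [ZMod.natCast_eq_natCast_iff'] at this
      rw [← Nat.mod_add_div (2 * i * _) r, this, Nat.one_mod_eq_one.2 hr.ne_one, pow_add, pow_mul,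
        hk, one_pow, mul_one, pow_one]
    have hkx : S.ρ k x = x := by rw [← hm]; exact S.pow_apply_fixed hk2 m
    refine S.eq_one_of_fixed_moved hodd hz hxz ?_
    have h3 := S.pow_apply_fixed hkx i
    have h4 : S.ρ (k ^ i) (S.ρ z x) = S.ρ (k ^ i) x := by
      rw [h3, ← ρ_mul_apply, ← ha, hxa']
    exact (S.ρ (k ^ i)).injective h4
  have hmapR : ∀ x ∈ R, S.ρ a x / x ∈ R := by
    rintro x ⟨hxz, hxa⟩
    exact ⟨div_mem (S.ρ_mem_moved haz hxz) hxz, by
      rw [map_div, ← ρ_mul_apply, haa', ρ_mul_apply, hxa]⟩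
  let f : R → R := fun x => ⟨S.ρ a x / x, hmapR x x.2⟩
  have hf : Function.Injective f := by
    intro x x' h
    have h' : S.ρ a (x : W) / x = S.ρ a (x' : W) / x' := congrArg Subtype.val h
    have h1 : S.ρ a ((x : W) / x') = (x : W) / x' := by
      rw [map_div]
      exact div_eq_div_iff_div_eq_div.1 h'
    exact Subtype.ext (div_eq_one.1 (hfree _ (div_mem x.2 x'.2) h1))
  obtain ⟨x, hx⟩ := (Finite.injective_iff_surjective.1 hf) ⟨y, hyz, hay⟩
  have hym : y ∈ S.moved a := ⟨x, (congrArg Subtype.val hx).symm⟩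
  have hQ : S.Q (w * y) = 1 := by
    rw [S.Q_mul, S.B_fixed_moved haw hym, hy, S.invariant, S.sq_V, mul_one]
  have hwy : y = w := by
    rw [← inv_eq_of_mul_eq_one_right (S.aniso _ hQ), S.inv_eq_self]
  exact hiN (hfree w ⟨hwz, hwy ▸ hay⟩ haw)

/-- Two dihedral actions with "crossed" fixed points commute. -/
theorem commute_of_crossed [Finite W] [Finite Γ] {r : ℕ} (hr : r.Prime) (hr2 : r ≠ 2)
    {P : Subgroup Γ} (hP : IsPGroup r P) (hfaith : ∀ p ∈ P, (∀ w, S.ρ p w = w) → p = 1)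
    {k k' g g' : Γ} (hk : k ∈ P) (hk' : k' ∈ P) (hkr : k ^ r = 1) (hk'r : k' ^ r = 1)
    (h1 : g * k * g⁻¹ = k⁻¹) (h2 : g * k' * g⁻¹ = k') (h3 : g' * k * g'⁻¹ = k)
    (h4 : g' * k' * g'⁻¹ = k'⁻¹) : k * k' = k' * k := by
  haveI : Fact r.Prime := ⟨hr⟩
  have hodd : Odd r := hr.odd_of_ne_two hr2
  by_contra hne
  set X := Subgroup.closure ({k, k'} : Set Γ) with hX
  have hkX : k ∈ X := Subgroup.subset_closure (by simp)
  have hk'X : k' ∈ X := Subgroup.subset_closure (by simp)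
  have hXP : X ≤ P := (Subgroup.closure_le _).2 (by
    intro x hx
    rcases hx with rfl | rfl
    · exact hk
    · exact hk')
  -- conjugations by `g`, `g'` on `X`
  have hpres : ∀ s : Γ, s * k * s⁻¹ ∈ X → s * k' * s⁻¹ ∈ X →
      ∀ x ∈ X, s * x * s⁻¹ ∈ X := by
    intro s hs hs' x hx
    induction hx using Subgroup.closure_induction with
    | mem y hy =>
      rcases hy with rfl | rfl
      · exact hs
      · exact hs'
    | one => simp
    | mul a b _ _ ha hb =>
      rw [← conj_mul]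
      exact mul_mem ha hb
    | inv a _ ha =>
      rw [← conj_inv]
      exact inv_mem ha
  have hgX : ∀ x ∈ X, g * x * g⁻¹ ∈ X :=
    hpres g (h1 ▸ inv_mem hkX) (h2.symm ▸ hk'X)
  have hg'X : ∀ x ∈ X, g' * x * g'⁻¹ ∈ X :=
    hpres g' (h3.symm ▸ hkX) (h4 ▸ inv_mem hk'X)
  have hcent : ∀ s : Γ, s * k = k * s → s * k' = k' * s → ∀ x ∈ X, s * x = x * s := by
    intro s hs hs' x hx
    induction hx using Subgroup.closure_induction with
    | mem y hy =>
      rcases hy with rfl | rfl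
      · exact hs
      · exact hs'
    | one => simp
    | mul a b _ _ ha hb => exact (Commute.mul_right ha hb)
    | inv a _ ha => exact (Commute.inv_right ha)
  have hpair : ∀ x ∈ X, g * (g * x * g⁻¹) * g⁻¹ = x ∧ g' * (g' * x * g'⁻¹) * g'⁻¹ = x ∧
      g * (g' * x * g'⁻¹) * g⁻¹ = g' * (g * x * g⁻¹) * g'⁻¹ := by
    intro x hx
    induction hx using Subgroup.closure_induction with
    | mem y hy =>
      rcases hy with rfl | rfl <;> simp [h1, h2, h3, h4, ← conj_inv]
    | one => simp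
    | mul a b _ _ ha hb =>
      obtain ⟨a1, a2, a3⟩ := ha
      obtain ⟨b1, b2, b3⟩ := hb
      have hcm : ∀ s u v : Γ, s * (u * v) * s⁻¹ = s * u * s⁻¹ * (s * v * s⁻¹) := fun s u v => by
        group
      refine ⟨?_, ?_, ?_⟩
      · rw [hcm g a b, hcm g (g * a * g⁻¹) (g * b * g⁻¹), a1, b1]
      · rw [hcm g' a b, hcm g' (g' * a * g'⁻¹) (g' * b * g'⁻¹), a2, b2]
      · rw [hcm g' a b, hcm g (g' * a * g'⁻¹) (g' * b * g'⁻¹), a3, b3, hcm g a b,
          hcm g' (g * a * g⁻¹) (g * b * g⁻¹)]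
    | inv a _ ha =>
      obtain ⟨a1, a2, a3⟩ := ha
      have hci : ∀ s u : Γ, s * u⁻¹ * s⁻¹ = (s * u * s⁻¹)⁻¹ := fun s u => by group
      refine ⟨?_, ?_, ?_⟩
      · rw [hci g a, hci g (g * a * g⁻¹), a1]
      · rw [hci g' a, hci g' (g' * a * g'⁻¹), a2]
      · rw [hci g' a, hci g (g' * a * g'⁻¹), a3, hci g a, hci g' (g * a * g⁻¹)]
  -- central elements of order `r` of the commutator group
  let Z : Subgroup Γ :=
    { carrier := {c | c ∈ ⁅X, X⁆ ∧ (∀ x ∈ X, c * x = x * c) ∧ c ^ r = 1}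
      one_mem' := ⟨one_mem _, by simp, one_pow r⟩
      mul_mem' := by
        rintro a b ⟨ha1, ha2, ha3⟩ ⟨hb1, hb2, hb3⟩
        refine ⟨mul_mem ha1 hb1, fun x hx => (Commute.mul_left (ha2 x hx) (hb2 x hx)), ?_⟩
        have hab : Commute a b := ha2 b (by
          exact Subgroup.commutator_le_self X hb1)
        rw [hab.mul_pow, ha3, hb3, one_mul]
      inv_mem' := by
        rintro a ⟨ha1, ha2, ha3⟩
        exact ⟨inv_mem ha1, fun x hx => Commute.inv_left (ha2 x hx), by rw [inv_pow, ha3, inv_one]⟩ }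
  have hZX : ∀ c ∈ Z, c ∈ X := fun c hc => Subgroup.commutator_le_self X hc.1
  have hZconj : ∀ s : Γ, (∀ x ∈ X, s * x * s⁻¹ ∈ X) → (∀ x ∈ X, ∃ y ∈ X, s * y * s⁻¹ = x) →
      ∀ c ∈ Z, s * c * s⁻¹ ∈ Z := by
    intro s hs hs' c hc
    refine ⟨?_, fun x hx => ?_, by rw [conj_pow, hc.2.2]; simp⟩
    · have hle : (⁅X, X⁆).map (MulAut.conj s).toMonoidHom ≤ ⁅X, X⁆ := by
        rw [Subgroup.map_commutator]
        refine Subgroup.commutator_mono ?_ ?_ <;>
          exact Subgroup.map_le_iff_le_comap.2 fun x hx => hs x hx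
      exact hle ⟨c, hc.1, rfl⟩
    · obtain ⟨y, hy, rfl⟩ := hs' x hx
      rw [conj_mul, conj_mul, hc.2.1 y hy]
  have hgZ := hZconj g hgX fun x hx => ⟨g * x * g⁻¹, hgX x hx, (hpair x hx).1⟩
  have hg'Z := hZconj g' hg'X fun x hx => ⟨g' * x * g'⁻¹, hg'X x hx, (hpair x hx).2.1⟩
  have hZne : ∃ c ∈ Z, c ≠ 1 := by
    set N : Subgroup X := commutator X with hN
    haveI : Nontrivial N := by
      rw [Subgroup.nontrivial_iff_ne_bot]
      intro hbot
      have h : (⁅(⟨k, hkX⟩ : X), ⟨k', hk'X⟩⁆ : X) ∈ N :=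
        Subgroup.commutator_mem_commutator (Subgroup.mem_top _) (Subgroup.mem_top _)
      rw [hbot, Subgroup.mem_bot, commutatorElement_eq_one_iff_mul_comm] at h
      exact hne (congrArg Subtype.val h)
    have hPX : IsPGroup r X := hP.to_le hXP
    haveI : N.Normal := by rw [hN, _root_.commutator_def]; infer_instance
    obtain ⟨c, hcN, hcC, hc⟩ := CfsgLib.OddOrder.BG4.exists_central_orderOf_prime hPX
      ((Subgroup.nontrivial_iff_ne_bot N).1 inferInstance)
    refine ⟨(c : Γ), ⟨?_, fun x hx => ?_, ?_⟩, fun h => ?_⟩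
    · have := Subgroup.mem_map_of_mem X.subtype hcN
      rwa [hN, _root_.commutator_def, Subgroup.map_commutator, ← MonoidHom.range_eq_map,
        Subgroup.range_subtype] at this
    · exact congrArg Subtype.val (Subgroup.mem_center_iff.1 hcC ⟨x, hx⟩).symm
    · rw [← Subgroup.coe_pow, ← hc, pow_orderOf_eq_one, Subgroup.coe_one]
    · rw [OneMemClass.coe_eq_one] at h
      rw [h, orderOf_one] at hc
      exact hr.ne_one hc.symm
  -- an eigenvector of `g`
  obtain ⟨c1, hc1, hc1ne, hc1g⟩ : ∃ c ∈ Z, c ≠ 1 ∧ (g * c * g⁻¹ = c ∨ g * c * g⁻¹ = c⁻¹) := by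
    obtain ⟨c, hc, hc1⟩ := hZne
    by_cases h : c * (g * c * g⁻¹) = 1
    · exact ⟨c, hc, hc1, Or.inr (eq_inv_of_mul_eq_one_right h)⟩
    · refine ⟨_, mul_mem hc (hgZ c hc), h, Or.inl ?_⟩
      rw [← conj_mul, (hpair c (hZX c hc)).1]
      exact (hc.2.1 _ (hgX c (hZX c hc))).symm
  -- a common eigenvector
  obtain ⟨c, hc, hcne, hcg, hcg'⟩ : ∃ c ∈ Z, c ≠ 1 ∧ (g * c * g⁻¹ = c ∨ g * c * g⁻¹ = c⁻¹) ∧
      (g' * c * g'⁻¹ = c ∨ g' * c * g'⁻¹ = c⁻¹) := by
    by_cases h : c1 * (g' * c1 * g'⁻¹) = 1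
    · exact ⟨c1, hc1, hc1ne, hc1g, Or.inr (eq_inv_of_mul_eq_one_right h)⟩
    · refine ⟨_, mul_mem hc1 (hg'Z c1 hc1), h, ?_, Or.inl ?_⟩
      · have hcomm := hc1.2.1 _ (hg'X c1 (hZX c1 hc1))
        rcases hc1g with h' | h'
        · left
          rw [← conj_mul, h', (hpair c1 (hZX c1 hc1)).2.2, h']
        · right
          rw [← conj_mul, h', (hpair c1 (hZX c1 hc1)).2.2, h',
            (Commute.mul_inv hcomm)]
          congr 1
          group
      · rw [← conj_mul, (hpair c1 (hZX c1 hc1)).2.1]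
        exact (hc1.2.1 _ (hg'X c1 (hZX c1 hc1))).symm
  have hck : k * c = c * k := (hc.2.1 k hkX).symm
  have hck' : k' * c = c * k' := (hc.2.1 k' hk'X).symm
  have hcomm_of_fix : ∀ {s : Γ}, s * c * s⁻¹ = c → s * c = c * s := fun h =>
    mul_inv_eq_iff_eq_mul.1 h
  -- one of the two is trivial on `[W, c]`
  have hone : (∀ u ∈ S.moved c, S.ρ k u = u) ∨ (∀ u ∈ S.moved c, S.ρ k' u = u) := by
    rcases hcg with hg | hg
    · exact Or.inl fun u hu => S.fixes_moved hr hr2 hkr hc.2.2 hck (hcomm_of_fix hg) h1 hu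
    rcases hcg' with hg' | hg'
    · exact Or.inr fun u hu => S.fixes_moved hr hr2 hk'r hc.2.2 hck' (hcomm_of_fix hg') h4 hu
    refine Or.inl fun u hu =>
      S.fixes_moved hr hr2 hkr hc.2.2 hck (g := g * g') (hcomm_of_fix ?_) ?_ hu
    · calc g * g' * c * (g * g')⁻¹ = g * (g' * c * g'⁻¹) * g⁻¹ := by group
        _ = c := by rw [hg', ← conj_inv, hg, inv_inv]
    · calc g * g' * k * (g * g')⁻¹ = g * (g' * k * g'⁻¹) * g⁻¹ := by group
        _ = k⁻¹ := by rw [h3, h1]
  have hmain : ∀ l : Γ, l * c = c * l →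
      (∀ x ∈ X, ∃ n : ℤ, ∀ u ∈ S.moved c, S.ρ x u = S.ρ (l ^ n) u) → False := by
    intro l hl hXl
    refine hcne (hfaith c (hXP (hZX c hc)) fun w => ?_)
    let K : Subgroup Γ :=
      { carrier := {x | x * c = c * x ∧ ∀ u ∈ S.moved c, S.ρ x u = u}
        one_mem' := ⟨by simp, by simp⟩
        mul_mem' := fun {a b} ha hb => ⟨Commute.mul_left ha.1 hb.1, fun u hu => by
          rw [ρ_mul_apply, hb.2 u hu, ha.2 u hu]⟩
        inv_mem' := fun {a} ha => ⟨Commute.inv_left ha.1, fun u hu => by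
          conv_lhs => rw [← ha.2 u hu]
          rw [← ρ_mul_apply, inv_mul_cancel, map_one, MulAut.one_apply]⟩ }
    have hle : ⁅X, X⁆ ≤ K := by
      rw [Subgroup.commutator_le]
      intro x hx x' hx'
      refine ⟨(hc.2.1 _ (Subgroup.commutator_le_self X
        (Subgroup.commutator_mem_commutator hx hx'))).symm, fun u hu => ?_⟩
      obtain ⟨n, hn⟩ := hXl x hx
      obtain ⟨n', hn'⟩ := hXl x' hx'
      have hmem : ∀ m : ℤ, ∀ v ∈ S.moved c, S.ρ (l ^ m) v ∈ S.moved c := fun m v hv =>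
        S.ρ_mem_moved (Commute.zpow_left hl m).eq hv
      have hxx : ∀ v ∈ S.moved c, S.ρ (x * x') v = S.ρ (x' * x) v := by
        intro v hv
        rw [ρ_mul_apply, hn' v hv, hn _ (hmem _ v hv), ρ_mul_apply, hn v hv, hn' _ (hmem _ v hv),
          ← ρ_mul_apply, ← ρ_mul_apply, ← zpow_add, ← zpow_add, add_comm]
      have hxc : ∀ y ∈ X, y * c = c * y := fun y hy => (hc.2.1 y hy).symm
      have hu' : S.ρ (x' * x)⁻¹ u ∈ S.moved c :=
        S.ρ_mem_moved (Commute.inv_left (hxc _ (mul_mem hx' hx))).eq hu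
      have := hxx _ hu'
      rw [← ρ_mul_apply, ← ρ_mul_apply, mul_inv_cancel, map_one, MulAut.one_apply] at this
      rwa [commutatorElement_def, show x * x' * x⁻¹ * x'⁻¹ = x * x' * (x' * x)⁻¹ by group]
    have hfix := (hle hc.1).2 _ ⟨w, rfl⟩
    exact div_eq_one.1 (S.eq_one_of_fixed_moved hodd hc.2.2 ⟨w, rfl⟩ hfix)
  have hgen : ∀ (l m : Γ), l * c = c * l → m * c = c * m → (∀ u ∈ S.moved c, S.ρ m u = u) →
      (X ≤ Subgroup.closure ({l, m} : Set Γ)) →
      ∀ x ∈ X, ∃ n : ℤ, ∀ u ∈ S.moved c, S.ρ x u = S.ρ (l ^ n) u := by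
    intro l m hl hm hfix hle x hx
    have hmem : ∀ m : ℤ, ∀ v ∈ S.moved c, S.ρ (l ^ m) v ∈ S.moved c := fun m v hv =>
      S.ρ_mem_moved (Commute.zpow_left hl m).eq hv
    suffices h : x * c = c * x ∧ ∃ n : ℤ, ∀ u ∈ S.moved c, S.ρ x u = S.ρ (l ^ n) u from h.2
    have hx' := hle hx
    clear hx
    induction hx' using Subgroup.closure_induction with
    | mem y hy =>
      rcases hy with rfl | rfl
      · exact ⟨hl, 1, fun u _ => by rw [zpow_one]⟩
      · exact ⟨hm, 0, fun u hu => by rw [hfix u hu, zpow_zero, map_one, MulAut.one_apply]⟩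
    | one => exact ⟨by simp, 0, fun u _ => by rw [zpow_zero]⟩
    | mul a b _ _ ha hb =>
      obtain ⟨hac, n, hn⟩ := ha
      obtain ⟨hbc, n', hn'⟩ := hb
      exact ⟨Commute.mul_left hac hbc, n + n', fun u hu => by
        rw [ρ_mul_apply, hn' u hu, hn _ (hmem _ u hu), ← ρ_mul_apply, ← zpow_add]⟩
    | inv a _ ha =>
      obtain ⟨hac, n, hn⟩ := ha
      refine ⟨Commute.inv_left hac, -n, fun u hu => ?_⟩
      apply (S.ρ a).injective
      rw [← ρ_mul_apply, mul_inv_cancel, hn _ (hmem _ u hu), ← ρ_mul_apply, ← zpow_add,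
        add_neg_cancel, zpow_zero]
  rcases hone with h | h
  · refine hmain k' hck' (hgen k' k hck' hck h ?_)
    rw [hX, Set.pair_comm]
  · exact hmain k hck (hgen k k' hck hck' h le_rfl)

/-- A family of independent dihedral actions is small. -/
theorem two_pow_card_le [Finite W] [Finite V] [Finite Γ] {r : ℕ} (hr : r.Prime) (hr2 : r ≠ 2)
    {P : Subgroup Γ} (hP : IsPGroup r P) (hfaith : ∀ p ∈ P, (∀ w, S.ρ p w = w) → p = 1)
    {ι : Type*} [Fintype ι] (k : ι → Γ) (g : ι → ι → Γ) (hk : ∀ i, k i ∈ P)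
    (hk1 : ∀ i, k i ≠ 1) (hkr : ∀ i, k i ^ r = 1)
    (hinv : ∀ i j, i ≠ j → g i j * k i * (g i j)⁻¹ = (k i)⁻¹)
    (hfix : ∀ i j, i ≠ j → g i j * k j * (g i j)⁻¹ = k j) :
    2 ^ Fintype.card ι ≤ Nat.card V := by
  classical
  haveI := Fintype.ofFinite V
  have hcomm : ∀ i j, k i * k j = k j * k i := by
    intro i j
    by_cases h : i = j
    · rw [h]
    · exact S.commute_of_crossed hr hr2 hP hfaith (hk i) (hk j) (hkr i) (hkr j) (hinv i j h)
        (hfix i j h) (hfix j i (Ne.symm h)) (hinv j i (Ne.symm h))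
  have hu : ∀ i, ∃ u ∈ S.moved (k i), u ≠ 1 := by
    intro i
    by_contra! h
    exact hk1 i (hfaith _ (hk i) fun w => div_eq_one.1 (h _ ⟨w, rfl⟩))
  choose u hum hu1 using hu
  have hfixu : ∀ i j, i ≠ j → S.ρ (k i) (u j) = u j := fun i j h =>
    S.fixes_moved hr hr2 (hkr i) (hkr j) (hcomm i j) (mul_inv_eq_iff_eq_mul.1 (hfix i j h))
      (hinv i j h) (hum j)
  have hBu : ∀ i j, S.B (u i) (u j) = 1 := by
    intro i j
    by_cases h : i = j
    · rw [h, S.B_self]
    · exact S.B_fixed_moved (hfixu j i (Ne.symm h)) (hum j)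
  have hB2 : ∀ (s t : Finset ι), S.B (∏ i ∈ s, u i) (∏ j ∈ t, u j) = 1 := by
    intro s t
    induction s using Finset.induction_on with
    | empty => rw [prod_empty, S.B_one_left]
    | insert a s ha ih =>
      rw [prod_insert ha, S.B_mul_left, ih, mul_one]
      induction t using Finset.induction_on with
      | empty => rw [prod_empty, S.B_comm, S.B_one_left]
      | insert b t hb ih' =>
        rw [prod_insert hb, S.B_mul_right, hBu, one_mul]
        refine ih' ?_
        have hb2 := ih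
        rw [prod_insert hb, S.B_mul_right] at hb2
        have : S.B (∏ i ∈ s, u i) (u b) = 1 := by
          clear ih hb2 ih'
          induction s using Finset.induction_on with
          | empty => rw [prod_empty, S.B_one_left]
          | insert c s hc ih2 =>
            rw [prod_insert hc, S.B_mul_left, hBu, one_mul]
            exact ih2 (fun h => ha (Finset.mem_insert_of_mem h))
        rwa [this, one_mul] at hb2
  have hinj : Function.Injective fun s : Finset ι => S.Q (∏ i ∈ s, u i) := by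
    intro s t h
    have h1 : (∏ i ∈ s, u i) = ∏ i ∈ t, u i := by
      have h2 : S.Q ((∏ i ∈ s, u i) * ∏ i ∈ t, u i) = 1 := by
        rw [S.Q_mul, hB2, mul_one]
        simp only at h
        rw [h, S.sq_V]
      rw [← inv_eq_of_mul_eq_one_right (S.aniso _ h2), S.inv_eq_self]
    have hdet : ∀ (i : ι) (s : Finset ι), S.ρ (k i) (∏ j ∈ s, u j) = ∏ j ∈ s, u j ↔ i ∉ s := by
      intro i s
      constructor
      · intro hfx his
        rw [← mul_prod_erase s u his, map_mul, map_prod,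
          prod_congr rfl fun j hj => hfixu i j (ne_of_mem_erase hj).symm] at hfx
        exact hu1 i (S.eq_one_of_fixed_moved (hr.odd_of_ne_two hr2) (hkr i) (hum i)
          (mul_right_cancel hfx))
      · intro his
        rw [map_prod]
        exact prod_congr rfl fun j hj => hfixu i j fun h => his (h ▸ hj)
    ext i
    have hs := hdet i s
    rw [h1, hdet i t] at hs
    exact not_iff_not.1 hs.symm
  have := Fintype.card_le_of_injective _ hinj
  rw [Fintype.card_finset] at this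
  exact this.trans_eq Nat.card_eq_fintype_card.symm

end AnisotropicSystem

end CfsgLib.OneClassInvolutions
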